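import Groth.Agent.S1127
import Groth.Agent.S1864
import Groth.Agent.Lib.GrpSch.Basic
import Groth.Agent.Lib.Ferrand.Finite
import Groth.Agent.Lib.Lim.Thickening
import Groth.Prelude.Def_Red
import Mathlib.AlgebraicGeometry.Morphisms.Finite
import Mathlib.AlgebraicGeometry.AlgClosed.Basic
import Mathlib.AlgebraicGeometry.Limits

/-!
# Finite sets of points of group schemes over fields and artinian rings lie in affine opens
-/

set_option autoImplicit false
set_option linter.style.haveILetI false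
set_option backward.isDefEq.respectTransparency false
set_option backward.isDefEq.respectTransparency.types false

noncomputable section

universe u

open CategoryTheory CategoryTheory.Limits AlgebraicGeometry TopologicalSpace

namespace Groth.Agent.Lib.WeilRep.GrpAffine

variable {X : Scheme.{u}}

theorem exists_isAffineOpen_of_isQuasiAffine (O : X.Opens) [Scheme.IsQuasiAffine (O : Scheme.{u})]
    {E : Set X} (hE : E.Finite) (hEO : E ⊆ O) : ∃ Y : X.Opens, IsAffineOpen Y ∧ E ⊆ Y := by
  haveI := hE.to_subtype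
  let j := (O : Scheme.{u}).toSpecΓ
  let p : E → Spec Γ((O : Scheme.{u}), ⊤) := fun a => j ⟨a.1, hEO a.2⟩
  obtain ⟨r, hr, hAr⟩ := Lib.Ferrand.exists_basicOpen_finite_le
    (isAffineOpen_top (Spec Γ((O : Scheme.{u}), ⊤))) (Set.finite_range p) (Set.subset_univ _)
    j.opensRange (by rintro _ ⟨a, rfl⟩; exact ⟨_, rfl⟩)
  exact ⟨O.ι ''ᵁ (j ⁻¹ᵁ (Spec Γ((O : Scheme.{u}), ⊤)).basicOpen r),
    (((isAffineOpen_top _).basicOpen r).preimage_of_isOpenImmersion j hr).image_of_isOpenImmersion O.ι,
    fun a ha => ⟨⟨a, hEO ha⟩, hAr ⟨⟨a, ha⟩, rfl⟩, rfl⟩⟩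

theorem isQuasiAffine_hom_of_openImmersion {Y Z : Scheme.{u}} (g : Y ⟶ Z) [QuasiCompact g]
    [Y.IsQuasiAffine] : Mor2.IsQuasiAffine g := by
  refine ⟨inferInstance, fun V hV => ?_⟩
  haveI : CompactSpace ↥((g ⁻¹ᵁ V).toScheme) :=
    isCompact_iff_compactSpace.mp (g.isCompact_preimage hV.isCompact)
  exact Scheme.IsQuasiAffine.of_isImmersion (g ⁻¹ᵁ V).ι

variable {κ : Type u} [Field κ] (H : Over (Spec (CommRingCat.of κ))) [GrpObj H]
  [LocallyOfFiniteType H.hom] [QuasiCompact H.hom]

/-- Finitely many points of a group scheme of finite type over a field lie in an affine open. -/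
theorem exists_isAffineOpen_finite (E : Set H.left) (hE : E.Finite) :
    ∃ U : H.left.Opens, IsAffineOpen U ∧ E ⊆ U := by
  haveI := GrpSch.isSeparated_of_field H
  haveI : CompactSpace H.left := QuasiCompact.compactSpace_of_compactSpace H.hom
  wlog hcl : ∀ x ∈ E, IsClosed ({x} : Set H.left) generalizing E
  · have hc : ∀ x : E, ∃ c : H.left, c ∈ closure ({x.1} : Set H.left) ∧ IsClosed ({c} : Set H.left) := fun x =>
      isClosed_closure.exists_closed_singleton ((Set.singleton_nonempty x.1).closure)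
    choose c hc hcl' using hc
    haveI hfinE := hE.to_subtype
    obtain ⟨U, hU, hEU⟩ := this (Set.range c) (Set.finite_range c) (by rintro _ ⟨x, rfl⟩; exact hcl' x)
    exact ⟨U, hU, fun x hx =>
      (specializes_iff_mem_closure.mpr (hc ⟨x, hx⟩)).mem_open U.2 (hEU ⟨⟨x, hx⟩, rfl⟩)⟩
  let K := AlgebraicClosure κ
  let jK : Spec (CommRingCat.of K) ⟶ Spec (CommRingCat.of κ) :=
    Spec.map (CommRingCat.ofHom (algebraMap κ K))
  haveI : IsIntegralHom jK := IsIntegralHom.SpecMap_iff.mpr (algebraMap_isIntegral_iff.mpr inferInstance)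
  haveI : Flat jK := Flat.SpecMap_iff.mpr (RingHom.flat_algebraMap_iff.mpr inferInstance)
  haveI : Surjective jK := ⟨fun y => ⟨IsLocalRing.closedPoint K, Subsingleton.elim _ _⟩⟩
  let HK := Red.bc jK H
  haveI : LocallyOfFiniteType HK.hom := inferInstanceAs (LocallyOfFiniteType (pullback.snd H.hom jK))
  haveI : QuasiCompact HK.hom := inferInstanceAs (QuasiCompact (pullback.snd H.hom jK))
  let p : HK.left ⟶ H.left := pullback.fst H.hom jK
  haveI : IsIntegralHom p := inferInstanceAs (IsIntegralHom (pullback.fst H.hom jK))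
  haveI : Surjective p := inferInstanceAs (Surjective (pullback.fst H.hom jK))
  have hfin : ∀ x ∈ E, (p ⁻¹' {x}).Finite := fun x hx => by
    haveI := isClosed_singleton_iff_isClosedImmersion.mp (hcl x hx)
    let a := H.left.fromSpecResidueField x ≫ H.hom
    haveI : IsFinite a := isFinite_iff_locallyOfFiniteType_of_jacobsonSpace.mpr inferInstance
    let P := pullback a jK
    haveI : Finite P := by
      rw [← Set.finite_univ_iff, ← Set.preimage_univ (f := pullback.snd a jK)]
      exact (Set.finite_univ).preimage' fun y _ => (pullback.snd a jK).finite_preimage_singleton y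
    refine (Set.finite_range (pullback.map a jK H.hom jK (H.left.fromSpecResidueField x) (𝟙 _) (𝟙 _)
      (by simp [a]) (by simp))).subset ?_
    rw [Scheme.Pullback.range_map, Scheme.range_fromSpecResidueField]
    exact fun z hz => ⟨hz, ⟨_, rfl⟩⟩
  have hF : (p ⁻¹' E).Finite := hE.preimage' hfin
  obtain ⟨n, g, hg⟩ := hF.fin_embedding
  haveI : JacobsonSpace H.left := LocallyOfFiniteType.jacobsonSpace H.hom
  haveI : JacobsonSpace HK.left := LocallyOfFiniteType.jacobsonSpace HK.hom
  obtain ⟨U, hU, hgU⟩ := S1864.result K HK n g fun i => by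
    have hi : g i ∈ p ⁻¹' E := hg ▸ Set.mem_range_self i
    have hfc : IsClosed (p ⁻¹' {p (g i)}) := (hcl _ hi).preimage p.continuous
    have h2 : IsClosed (p ⁻¹' {p (g i)} ∩ closedPoints HK.left) := by
      rw [← Set.biUnion_of_singleton (p ⁻¹' {p (g i)} ∩ closedPoints HK.left)]
      exact ((hfin _ hi).inter_of_left _).isClosed_biUnion fun z hz => hz.2
    have h3 : g i ∈ closure (p ⁻¹' {p (g i)} ∩ closedPoints HK.left) := by
      rw [JacobsonSpace.closure_inter_closedPoints_eq_closure hfc.isLocallyClosed]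
      exact subset_closure rfl
    rw [h2.closure_eq] at h3
    exact h3.2
  have hFU : p ⁻¹' E ⊆ U := by rw [← hg]; rintro _ ⟨i, rfl⟩; exact hgU i
  let W : H.left.Opens := ⟨(p '' (U : Set HK.left)ᶜ)ᶜ, (p.isClosedMap _ U.2.isClosed_compl).isOpen_compl⟩
  have hEW : E ⊆ W := by
    rintro x hx ⟨z, hz, rfl⟩
    exact hz (hFU hx)
  have hV : ∀ x : E, ∃ V : H.left.Opens, IsAffineOpen V ∧ x.1 ∈ V ∧ V ≤ W := fun x => by
    obtain ⟨V, hV, hxV, hVW⟩ := exists_isAffineOpen_mem_and_subset (X := H.left) (x := x.1) (U := W) (hEW x.2)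
    exact ⟨V, hV, hxV, hVW⟩
  choose V hV hxV hVW using hV
  haveI := hE.to_subtype
  let W' : H.left.Opens := ⨆ x, V x
  have hW' : IsCompact (W' : Set H.left) := by
    rw [TopologicalSpace.Opens.coe_iSup]
    exact isCompact_iUnion fun x => (hV x).isCompact
  have hEW' : E ⊆ W' := fun x hx => TopologicalSpace.Opens.mem_iSup.2 ⟨⟨x, hx⟩, hxV ⟨x, hx⟩⟩
  haveI : CompactSpace ↥W'.toScheme := isCompact_iff_compactSpace.mp hW'
  haveI : QuasiCompact (W'.ι ≫ H.hom) := (HasAffineProperty.iff_of_isAffine (P := @QuasiCompact)).mpr inferInstance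
  let sq := IsPullback.of_hasPullback (W'.ι ≫ H.hom) jK
  haveI hPqa : Scheme.IsQuasiAffine (pullback (W'.ι ≫ H.hom) jK) := by
    let m : pullback (W'.ι ≫ H.hom) jK ⟶ HK.left :=
      pullback.map _ _ _ _ W'.ι (𝟙 _) (𝟙 _) (by simp) (by simp)
    haveI : IsOpenImmersion m := inferInstanceAs (IsOpenImmersion (pullback.map _ _ _ _ _ _ _ _ _))
    have hm : Set.range m ⊆ Set.range U.ι := by
      rw [Scheme.Opens.range_ι]
      rintro z hz
      replace hz := (Scheme.Pullback.range_map _ _ H.hom jK W'.ι (𝟙 _) (𝟙 _) _ _).subset hz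
      rw [Scheme.Opens.range_ι] at hz
      by_contra hzU
      exact (iSup_le hVW : W' ≤ W) hz.1 ⟨z, hzU, rfl⟩
    haveI : IsAffine (U : Scheme.{u}) := hU
    exact Scheme.IsQuasiAffine.of_isImmersion (IsOpenImmersion.lift U.ι m hm)
  have hq : Mor2.IsQuasiAffine (pullback.snd (W'.ι ≫ H.hom) jK) := isQuasiAffine_hom_of_openImmersion _
  have hd : Mor2.IsQuasiAffine (W'.ι ≫ H.hom) :=
    (S1127.result).of_isPullback (f := jK) sq.flip ⟨⟨inferInstance, inferInstance⟩, inferInstance⟩ hq
  haveI := hd.2 ⊤ (isAffineOpen_top _)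
  haveI : Scheme.IsQuasiAffine (W' : Scheme.{u}) := Scheme.IsQuasiAffine.of_isImmersion
    (IsOpenImmersion.lift ((W'.ι ≫ H.hom) ⁻¹ᵁ ⊤).ι (𝟙 _) (by simp))
  exact exists_isAffineOpen_of_isQuasiAffine W' hE hEW'

/-- Finitely many points of a group scheme of finite type over an artinian ring lie in an affine open. -/
theorem exists_isAffineOpen_finite_of_isArtinianRing {A : Type u} [CommRing A] [IsArtinianRing A]
    (G : Over (Spec (CommRingCat.of A))) [GrpObj G] [LocallyOfFiniteType G.hom] [QuasiCompact G.hom]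
    (E : Set G.left) (hE : E.Finite) : ∃ Y : G.left.Opens, IsAffineOpen Y ∧ E ⊆ Y := by
  haveI : DiscreteTopology (Spec (CommRingCat.of A) : Scheme.{u}) :=
    inferInstanceAs (DiscreteTopology (PrimeSpectrum A))
  haveI : Finite (Spec (CommRingCat.of A) : Scheme.{u}) := inferInstanceAs (Finite (PrimeSpectrum A))
  let O : (Spec (CommRingCat.of A) : Scheme.{u}) → G.left.Opens := fun s => G.hom ⁻¹ᵁ ⟨{s}, isOpen_discrete _⟩
  have key : ∀ s, ∃ Y : G.left.Opens, IsAffineOpen Y ∧ Y ≤ O s ∧ E ∩ O s ⊆ Y := fun s => by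
    let M : Ideal A := PrimeSpectrum.asIdeal s
    haveI : M.IsPrime := PrimeSpectrum.isPrime s
    haveI : M.IsMaximal := IsArtinianRing.isMaximal_of_isPrime M
    letI : Field (A ⧸ M) := Ideal.Quotient.field M
    let j : Spec (CommRingCat.of (A ⧸ M)) ⟶ Spec (CommRingCat.of A) :=
      Spec.map (CommRingCat.ofHom (Ideal.Quotient.mk M))
    haveI : IsClosedImmersion j := IsClosedImmersion.spec_of_surjective _ Ideal.Quotient.mk_surjective
    have hj : Set.range j = {s} := by
      refine (range_comap_of_surjective _ _ Ideal.Quotient.mk_surjective).trans ?_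
      rw [Ideal.mk_ker]
      ext q
      exact ⟨fun h => PrimeSpectrum.ext ((IsArtinianRing.isMaximal_of_isPrime M).eq_of_le q.2.ne_top h).symm,
        fun h => by cases h; exact Set.Subset.refl (M : Set A)⟩
    let H := Red.bc j G
    haveI : LocallyOfFiniteType H.hom := inferInstanceAs (LocallyOfFiniteType (pullback.snd G.hom j))
    haveI : QuasiCompact H.hom := inferInstanceAs (QuasiCompact (pullback.snd G.hom j))
    let p : H.left ⟶ G.left := pullback.fst G.hom j
    haveI : IsClosedImmersion p := inferInstanceAs (IsClosedImmersion (pullback.fst G.hom j))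
    have hp : Set.range p = O s := by
      refine (Scheme.Pullback.range_fst (f := G.hom) (g := j)).trans ?_
      rw [hj]
      rfl
    have hr : Set.range p ⊆ Set.range (O s).ι := by rw [hp, Scheme.Opens.range_ι]
    let i : H.left ⟶ O s := IsOpenImmersion.lift (O s).ι p hr
    have hi : i ≫ (O s).ι = p := IsOpenImmersion.lift_fac _ _ _
    haveI : IsClosedImmersion (i ≫ (O s).ι) := by rw [hi]; infer_instance
    haveI : IsClosedImmersion i := IsClosedImmersion.of_comp i (O s).ι
    haveI : Surjective i := ⟨fun y => by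
      obtain ⟨z, hz⟩ := hp.ge y.2
      refine ⟨z, (O s).ι.isOpenEmbedding.injective ?_⟩
      rw [← Scheme.Hom.comp_apply, hi]
      exact hz⟩
    obtain ⟨W, hW, hEW⟩ := exists_isAffineOpen_finite H (p ⁻¹' E)
      (hE.preimage p.isClosedEmbedding.injective.injOn)
    let U' : (O s).toScheme.Opens :=
      ⟨(i '' (W : Set H.left)ᶜ)ᶜ, (i.isClosedMap _ W.2.isClosed_compl).isOpen_compl⟩
    have hU' : i ⁻¹ᵁ U' = W := by
      ext z
      exact ⟨fun h => by_contra fun hz => h ⟨z, hz, rfl⟩,
        fun h ⟨z', hz', he⟩ => hz' (i.isClosedEmbedding.injective he ▸ h)⟩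
    haveI : IsAffine (i ⁻¹ᵁ U' : Scheme.{u}) := hU'.symm ▸ hW
    haveI : IsClosedImmersion (i ∣_ U') := IsZariskiLocalAtTarget.restrict (P := @IsClosedImmersion) inferInstance U'
    haveI : Surjective (i ∣_ U') := IsZariskiLocalAtTarget.restrict (P := @Surjective) inferInstance U'
    have hU'aff : IsAffineOpen U' := Lim.Thickening.isAffine_of_surjective (i ∣_ U')
    refine ⟨(O s).ι ''ᵁ U', hU'aff.image_of_isOpenImmersion _, fun x hx => ?_, fun x hx => ?_⟩
    · obtain ⟨y, -, rfl⟩ := hx
      exact y.2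
    · refine ⟨⟨x, hx.2⟩, ?_, rfl⟩
      rintro ⟨z, hz, he⟩
      refine hz (hEW ?_)
      change p z ∈ E
      rw [← hi, Scheme.Hom.comp_apply, he]
      exact hx.1
  choose Y hY hYO hEY using key
  refine ⟨⨆ s, Y s, IsAffineOpen.iSup_of_disjoint hY fun s t hst => ?_,
    fun x hx => TopologicalSpace.Opens.mem_iSup.2 ⟨G.hom x, hEY _ ⟨hx, rfl⟩⟩⟩
  rw [Function.onFun, disjoint_iff_inf_le]
  exact fun x hx => hst ((hYO s hx.1).symm.trans (hYO t hx.2))

end Groth.Agent.Lib.WeilRep.GrpAffine
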