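import Groth.Agent.Lib.WeilRep.Glue
import Mathlib.AlgebraicGeometry.Sites.Representability
import Mathlib.CategoryTheory.Limits.Types.Pullbacks

/-!
# Representability of a Zariski sheaf on schemes over a base covered by representable open subfunctors
-/

set_option autoImplicit false
set_option linter.style.haveILetI false
set_option backward.isDefEq.respectTransparency false
set_option backward.isDefEq.respectTransparency.types false

noncomputable section

universe u

open CategoryTheory CategoryTheory.Limits AlgebraicGeometry Opposite TopologicalSpace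

namespace Groth.Agent.Lib.WeilRep.Charts

open Glue

variable {S : Scheme.{u}} (F : (Over S)ᵒᵖ ⥤ Type u)

/-- Elements of `F` over a scheme: a structure map and a section. -/
def El (T : Scheme.{u}) : Type u := Σ t : T ⟶ S, F.obj (op (Over.mk t))

variable {F}

/-- Restriction of elements. -/
def mapEl {T T' : Scheme.{u}} (h : T' ⟶ T) (x : El F T) : El F T' :=
  ⟨h ≫ x.1, act F (Over.homMk h rfl : Over.mk (h ≫ x.1) ⟶ Over.mk x.1) x.2⟩

theorem mapEl_eq_iff {T T' : Scheme.{u}} (h : T' ⟶ T) (x : El F T) (y : El F T') :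
    mapEl h x = y ↔ ∃ w : h ≫ x.1 = y.1,
      act F (Over.homMk h w : Over.mk y.1 ⟶ Over.mk x.1) x.2 = y.2 := by
  obtain ⟨t', a'⟩ := y
  constructor
  · intro he
    obtain ⟨h1, h2⟩ := Sigma.mk.inj_iff.mp he
    subst h1
    exact ⟨rfl, eq_of_heq h2⟩
  · rintro ⟨w, hw⟩
    simp only at w
    subst w
    exact Sigma.ext rfl (heq_of_eq hw)

theorem mapEl_id {T : Scheme.{u}} (x : El F T) : mapEl (𝟙 T) x = x := by
  refine (mapEl_eq_iff _ _ _).mpr ⟨Category.id_comp _, ?_⟩
  rw [show (Over.homMk (𝟙 T) (Category.id_comp _) : Over.mk x.1 ⟶ Over.mk x.1) = 𝟙 _ from rfl]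
  exact act_id F _

theorem mapEl_comp {T T' T'' : Scheme.{u}} (h : T'' ⟶ T') (h' : T' ⟶ T) (x : El F T) :
    mapEl (h ≫ h') x = mapEl h (mapEl h' x) := by
  refine (mapEl_eq_iff _ _ _).mpr ⟨Category.assoc _ _ _, ?_⟩
  refine Eq.trans ?_ (act_comp F _ _ _)
  rfl

variable (F) in
/-- The presheaf of elements on all schemes. -/
def elFunctor : Scheme.{u}ᵒᵖ ⥤ Type u where
  obj T := El F T.unop
  map h := ↾(mapEl h.unop)
  map_id T := by ext x; exact mapEl_id x
  map_comp h h' := by ext x; exact mapEl_comp h'.unop h.unop x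

theorem isSheaf_elFunctor (hF : IsZSheaf F) : Presieve.IsSheaf Scheme.zariskiTopology (elFunctor F) := by
  rw [Precoverage.isSheaf_toGrothendieck_iff_of_isStableUnderBaseChange]
  rintro Y R hR x hx
  obtain ⟨(𝓤 : Scheme.OpenCover Y), rfl⟩ := Scheme.exists_cover_of_mem_pretopology hR
  let s : ∀ i, 𝓤.X i ⟶ S := fun i => (x (𝓤.f i) (.mk i)).1
  let a : ∀ i, F.obj (op (Over.mk (s i))) := fun i => (x (𝓤.f i) (.mk i)).2
  have hcompat : ∀ i j, mapEl (pullback.fst (𝓤.f i) (𝓤.f j)) (x (𝓤.f i) (.mk i)) =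
      mapEl (pullback.snd (𝓤.f i) (𝓤.f j)) (x (𝓤.f j) (.mk j)) := fun i j =>
    hx _ _ (.mk i) (.mk j) pullback.condition
  have hg : ∀ i j, pullback.fst (𝓤.f i) (𝓤.f j) ≫ s i = pullback.snd (𝓤.f i) (𝓤.f j) ≫ s j :=
    fun i j => congrArg Sigma.fst (hcompat i j)
  let tY : Y ⟶ S := 𝓤.glueMorphisms s hg
  have htY : ∀ i, 𝓤.f i ≫ tY = s i := fun i => 𝓤.ι_glueMorphisms _ _ i
  let T : Over S := Over.mk tY
  let q : ∀ i, Over.mk (s i) ⟶ T := fun i => Over.homMk (𝓤.f i) (htY i)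
  haveI : ∀ i, IsOpenImmersion (𝓤.f i) := fun i => 𝓤.map_prop i
  let V : 𝓤.I₀ → T.left.Opens := fun i => (𝓤.f i).opensRange
  have hcov : ∀ y : T.left, ∃ i, y ∈ V i := fun y => by
    obtain ⟨i, z, hz⟩ := 𝓤.exists_eq y
    exact ⟨i, z, hz⟩
  let e : ∀ i, res T (V i) ⟶ Over.mk (s i) := fun i =>
    Over.homMk (IsOpenImmersion.lift (𝓤.f i) (V i).ι (range_ι (V i)).subset) (by
      change IsOpenImmersion.lift _ _ _ ≫ s i = (V i).ι ≫ tY
      rw [← htY, ← Category.assoc, IsOpenImmersion.lift_fac])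
  have he : ∀ i, e i ≫ q i = resι T (V i) := fun i => by
    ext1; exact IsOpenImmersion.lift_fac _ _ _
  let d : ∀ i, Over.mk (s i) ⟶ res T (V i) := fun i =>
    Over.homMk (IsOpenImmersion.lift (V i).ι (𝓤.f i) (range_ι (V i)).symm.subset) (by
      change IsOpenImmersion.lift _ _ _ ≫ (V i).ι ≫ tY = s i
      rw [← Category.assoc, IsOpenImmersion.lift_fac, htY])
  have hd : ∀ i, d i ≫ resι T (V i) = q i := fun i => by
    ext1; exact IsOpenImmersion.lift_fac _ _ _
  have hde : ∀ i, d i ≫ e i = 𝟙 _ := fun i => by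
    ext1
    rw [← cancel_mono (𝓤.f i)]
    refine congrArg CommaMorphism.left (?_ : (d i ≫ e i) ≫ q i = 𝟙 _ ≫ q i)
    rw [Category.assoc, he, hd, Category.id_comp]
  have hkey : ∀ i j {R' : Over S} (m₁ : R' ⟶ Over.mk (s i)) (m₂ : R' ⟶ Over.mk (s j)),
      m₁ ≫ q i = m₂ ≫ q j → act F m₁ (a i) = act F m₂ (a j) := fun i j {R'} m₁ m₂ hm => by
    let l : R'.left ⟶ pullback (𝓤.f i) (𝓤.f j) :=
      pullback.lift m₁.left m₂.left (congrArg CommaMorphism.left hm)
    obtain ⟨w, hw⟩ := (mapEl_eq_iff _ _ _).mp (hcompat i j)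
    let L : R' ⟶ Over.mk (pullback.snd (𝓤.f i) (𝓤.f j) ≫ s j) := Over.homMk l (by
      change l ≫ pullback.snd (𝓤.f i) (𝓤.f j) ≫ s j = _
      rw [← Category.assoc, pullback.lift_snd]
      exact Over.w m₂)
    have h1 : L ≫ (Over.homMk (pullback.fst (𝓤.f i) (𝓤.f j)) w :
        Over.mk (pullback.snd (𝓤.f i) (𝓤.f j) ≫ s j) ⟶ Over.mk (s i)) = m₁ := by
      ext1; exact pullback.lift_fst _ _ _
    have h2 : L ≫ (Over.homMk (pullback.snd (𝓤.f i) (𝓤.f j)) rfl :
        Over.mk (pullback.snd (𝓤.f i) (𝓤.f j) ≫ s j) ⟶ Over.mk (s j)) = m₂ := by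
      ext1; exact pullback.lift_snd _ _ _
    rw [← h1, ← h2, act_comp, act_comp]
    exact congrArg (act F L) hw
  choose p hp using hcov
  obtain ⟨b, hb⟩ := hF.glue T T.left (fun y => V (p y)) (fun y => ⟨y, hp y⟩)
    (fun y => act F (e (p y)) (a (p y))) fun y y' => by
    rw [← act_comp, ← act_comp]
    exact hkey _ _ _ _ (by rw [Category.assoc, Category.assoc, he, he, resLE_resι, resLE_resι])
  have hbi : ∀ i, act F (q i) b = a i := fun i => by
    refine hF.sep _ _ _ fun z => ?_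
    let y : T.left := 𝓤.f i z
    let W' : (𝓤.X i).Opens := 𝓤.f i ⁻¹ᵁ V (p y)
    let m₂ : res (Over.mk (s i)) W' ⟶ res T (V (p y)) :=
      Over.homMk (IsOpenImmersion.lift (V (p y)).ι (W'.ι ≫ 𝓤.f i) (by
        rintro _ ⟨w, rfl⟩; exact (range_ι _).symm.subset w.2)) (by
        change IsOpenImmersion.lift _ _ _ ≫ (V (p y)).ι ≫ tY = W'.ι ≫ s i
        rw [← Category.assoc, IsOpenImmersion.lift_fac, Category.assoc, htY])
    have hm₂ : m₂ ≫ resι T _ = resι (Over.mk (s i)) W' ≫ q i := by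
      ext1; exact IsOpenImmersion.lift_fac _ _ _
    refine ⟨W', hp y, ?_⟩
    rw [← act_comp, ← hm₂, act_comp, hb, ← act_comp]
    exact (hkey i (p y) (resι (Over.mk (s i)) W') (m₂ ≫ e (p y))
      (by rw [Category.assoc, he, hm₂])).symm
  refine ⟨⟨tY, b⟩, ?_, ?_⟩
  · rintro W g ⟨i⟩
    exact (mapEl_eq_iff _ _ _).mpr ⟨htY i, hbi i⟩
  · rintro ⟨t', b'⟩ hamal
    have he' : ∀ i, mapEl (𝓤.f i) ⟨t', b'⟩ = x (𝓤.f i) (.mk i) := fun i => hamal (𝓤.f i) (.mk i)
    have htt : t' = tY := by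
      refine 𝓤.hom_ext _ _ fun i => ?_
      rw [htY]
      exact congrArg Sigma.fst (he' i)
    subst htt
    refine Sigma.ext rfl (heq_of_eq (hF.sep _ _ _ fun y => ?_))
    let i := p y
    obtain ⟨w, hw⟩ := (mapEl_eq_iff _ _ _).mp (he' i)
    refine ⟨V i, hp y, ?_⟩
    rw [← he, act_comp, act_comp, hbi]
    exact congrArg (act F (e i)) hw

variable (F) in
/-- A presheaf on schemes over `S` which is a Zariski sheaf and is covered by representable open subfunctors
is representable. -/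
theorem isRepresentable_of_charts (hF : IsZSheaf F) {ι : Type u} (W : ι → Over S)
    (u : ∀ i, F.obj (op (W i))) (O : ∀ i (T : Over S), F.obj (op T) → T.left.Opens)
    (hnat : ∀ i (T T' : Over S) (g : T' ⟶ T) (a : F.obj (op T)), O i T' (act F g a) = g.left ⁻¹ᵁ O i T a)
    (htop : ∀ i, O i (W i) (u i) = ⊤)
    (hrep : ∀ i (T : Over S) (a : F.obj (op T)), O i T a = ⊤ → ∃! g : T ⟶ W i, act F g (u i) = a)
    (hcover : ∀ (T : Over S) (a : F.obj (op T)) (x : T.left), ∃ i, x ∈ O i T a) :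
    F.IsRepresentable := by
  let Fs : Sheaf Scheme.zariskiTopology.{u} (Type u) :=
    ⟨elFunctor F, (isSheaf_iff_isSheaf_of_type _ _).mpr (isSheaf_elFunctor hF)⟩
  let c : ∀ i, yoneda.obj (W i).left ⟶ Fs.obj := fun i =>
    yonedaEquiv.symm (⟨(W i).hom, u i⟩ : El F (W i).left)
  have capp : ∀ i {T : Scheme.{u}} (k : T ⟶ (W i).left), (c i).app (op T) k = mapEl k ⟨(W i).hom, u i⟩ :=
    fun _ _ _ => rfl
  have hOres : ∀ i (T : Over S) (a : F.obj (op T)), O i (res T (O i T a)) (act F (resι T _) a) = ⊤ := by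
    intro i T a
    rw [hnat]
    exact top_le_iff.mp fun z _ => z.2
  have hf : ∀ i, IsOpenImmersion.presheaf (c i) := fun i => by
    refine MorphismProperty.relative.of_exists fun T g => ?_
    let x : El F T := yonedaEquiv g
    let T₀ : Over S := Over.mk x.1
    let V := O i T₀ x.2
    obtain ⟨k, hk, -⟩ := hrep i _ _ (hOres i T₀ x.2)
    have hk' : mapEl k.left ⟨(W i).hom, u i⟩ = mapEl V.ι x :=
      (mapEl_eq_iff _ _ _).mpr ⟨Over.w k, hk⟩
    refine ⟨(V : Scheme.{u}), yoneda.map k.left, V.ι, ?_, inferInstanceAs (IsOpenImmersion V.ι)⟩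
    have hg : ∀ {Y : Scheme.{u}} (b : Y ⟶ T), g.app (op Y) b = mapEl b x := fun b => by
      have := congr($(g.naturality b.op) (𝟙 T))
      simp [x, yonedaEquiv_apply] at this ⊢
      exact this
    refine IsPullback.of_forall_isPullback_app fun Y => ?_
    rw [Types.isPullback_iff]
    obtain ⟨Y⟩ := Y
    refine ⟨?_, fun a b ⟨_, h2⟩ => ?_, fun (a : Y ⟶ (W i).left) (b : Y ⟶ T) hab => ?_⟩
    · ext a
      show (c i).app (op Y) (a ≫ k.left) = g.app (op Y) (a ≫ V.ι)
      rw [capp, hg, mapEl_comp, mapEl_comp, hk']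
    · exact (cancel_mono V.ι).mp h2
    · change (c i).app (op Y) a = g.app (op Y) b at hab
      rw [capp, hg] at hab
      obtain ⟨w, hw⟩ := (mapEl_eq_iff _ _ _).mp hab
      change act F (Over.homMk a w : Over.mk (b ≫ x.1) ⟶ W i) (u i) = act F (Over.homMk b rfl : Over.mk (b ≫ x.1) ⟶ T₀) x.2 at hw
      have hall : O i _ (act F (Over.homMk b rfl : Over.mk (b ≫ x.1) ⟶ T₀) x.2) = ⊤ := by
        refine (congrArg (O i _) hw.symm).trans ?_
        rw [hnat, htop]
        rfl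
      rw [hnat] at hall
      have hrange : Set.range b ⊆ Set.range V.ι := by
        rw [range_ι]
        rintro _ ⟨y, rfl⟩
        exact hall.ge (Set.mem_univ y)
      let b' : Y ⟶ V := IsOpenImmersion.lift V.ι b hrange
      have hb' : b' ≫ V.ι = b := IsOpenImmersion.lift_fac _ _ _
      refine ⟨b', ?_, hb'⟩
      show b' ≫ k.left = a
      have h3 : mapEl (b' ≫ k.left) (⟨(W i).hom, u i⟩ : El F (W i).left) = mapEl a ⟨(W i).hom, u i⟩ := by
        rw [mapEl_comp, hk', ← mapEl_comp, hb', hab]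
      obtain ⟨w', hw'⟩ := (mapEl_eq_iff _ _ _).mp h3
      let ka : Over.mk (a ≫ (W i).hom) ⟶ W i := Over.homMk a rfl
      obtain ⟨g₀, -, hg₀⟩ := hrep i _ (act F ka (u i)) (by rw [hnat, htop]; rfl)
      have := (hg₀ (Over.homMk (b' ≫ k.left) w') hw').trans (hg₀ ka rfl).symm
      exact congrArg CommaMorphism.left this
  haveI : Presheaf.IsLocallySurjective Scheme.zariskiTopology (Sigma.desc c) := by
    constructor
    intro T x
    let T₀ : Over S := Over.mk (x : El F T).1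
    choose j hj using hcover T₀ (x : El F T).2
    let 𝓤 : T.OpenCover := T.openCoverOfIsOpenCover (fun t : T => O (j t) T₀ (x : El F T).2)
      (IsOpenCover.mk (eq_top_iff.mpr fun t _ => Opens.mem_iSup.mpr ⟨t, hj t⟩))
    refine GrothendieckTopology.superset_covering _ ?_ 𝓤.mem_grothendieckTopology
    rintro Y e ⟨Y', a, -, ⟨t⟩, rfl⟩
    refine Sieve.downward_closed _ ?_ a
    obtain ⟨k, hk, -⟩ := hrep (j t) _ _ (hOres (j t) T₀ (x : El F T).2)
    refine ⟨(Sigma.ι (fun i => yoneda.obj (W i).left) (j t)).app _ k.left, ?_⟩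
    rw [← NatTrans.comp_app_apply, Sigma.ι_desc, capp]
    exact (mapEl_eq_iff _ _ _).mpr ⟨Over.w k, hk⟩
  let rep : (elFunctor F).RepresentableBy (Scheme.LocalRepresentability.glueData hf).glued :=
    Scheme.LocalRepresentability.representableBy hf
  let univ := rep.homEquiv (𝟙 _)
  have hm : ∀ {T : Scheme.{u}} (m : T ⟶ (Scheme.LocalRepresentability.glueData hf).glued),
      rep.homEquiv m = mapEl m univ := fun m => by
    rw [rep.homEquiv_eq]; rfl
  refine ⟨Over.mk univ.1, ⟨representableBy (u := univ.2) fun T => ⟨fun g g' e => ?_, fun a => ?_⟩⟩⟩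
  · ext1
    apply rep.homEquiv.injective
    rw [hm, hm]
    exact ((mapEl_eq_iff g.left univ ⟨T.hom, act F g univ.2⟩).mpr ⟨Over.w g, rfl⟩).trans
      ((mapEl_eq_iff g'.left univ ⟨T.hom, act F g univ.2⟩).mpr ⟨Over.w g', e.symm⟩).symm
  · let z : El F T.left := ⟨T.hom, a⟩
    obtain ⟨w, hw⟩ := (mapEl_eq_iff _ _ _).mp ((hm (rep.homEquiv.symm z)).symm.trans
      (rep.homEquiv.apply_symm_apply z))
    exact ⟨Over.homMk (rep.homEquiv.symm z) w, hw⟩

end Groth.Agent.Lib.WeilRep.Charts
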