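import Groth.Agent.Lib.WeilRep.Affine
import Groth.Agent.Lib.WeilRep.Charts
import Mathlib.AlgebraicGeometry.Morphisms.QuasiFinite

/-!
# Weil restriction along finite locally free morphisms of schemes with enough affine opens
-/

set_option autoImplicit false
set_option linter.style.haveILetI false
set_option backward.isDefEq.respectTransparency false
set_option backward.isDefEq.respectTransparency.types false

noncomputable section

universe u

open CategoryTheory CategoryTheory.Limits AlgebraicGeometry Opposite TopologicalSpace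

namespace Groth.Agent.Lib.WeilRep.AF

open Glue

variable {S S' : Scheme.{u}} (f : S' ⟶ S) (X' : Over S')

theorem isPullback_map {T' T : Over S} (g : T' ⟶ T) :
    IsPullback ((Over.pullback f).map g).left (pullback.fst T'.hom f) (pullback.fst T.hom f) g.left := by
  refine IsPullback.of_right ?_ (pullback.lift_fst _ _ _) (IsPullback.of_hasPullback T.hom f).flip
  have e : ((Over.pullback f).map g).left ≫ pullback.snd T.hom f = pullback.snd T'.hom f :=
    pullback.lift_snd _ _ _
  rw [e, Over.w g]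
  exact (IsPullback.of_hasPullback T'.hom f).flip

/-- The part of `T` over which a section lands in `Y` and which lies over `U`. -/
def locus [UniversallyClosed f] (U : S.Opens) (Y : X'.left.Opens) (T : Over S)
    (a : (Over.pullback f).obj T ⟶ X') : T.left.Opens :=
  ⟨(pullback.fst T.hom f '' (a.left ⁻¹ᵁ Y : (pullback T.hom f).Opens).carrierᶜ)ᶜ ∩ (T.hom ⁻¹ᵁ U).1,
    ((pullback.fst T.hom f).isClosedMap _ (a.left ⁻¹ᵁ Y).2.isClosed_compl).isOpen_compl.inter (T.hom ⁻¹ᵁ U).2⟩

theorem mem_locus [UniversallyClosed f] (U : S.Opens) (Y : X'.left.Opens) (T : Over S)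
    (a : (Over.pullback f).obj T ⟶ X') (t : T.left) :
    t ∈ locus f X' U Y T a ↔
      (∀ z : ↥(pullback T.hom f), pullback.fst T.hom f z = t → a.left z ∈ Y) ∧ T.hom t ∈ U := by
  refine and_congr_left fun _ => ?_
  constructor
  · intro h z hz
    by_contra hc
    exact h ⟨z, hc, hz⟩
  · rintro h ⟨z, hc, hz⟩
    exact hc (h z hz)

theorem locus_act [UniversallyClosed f] (U : S.Opens) (Y : X'.left.Opens) (T T' : Over S) (g : T' ⟶ T)
    (a : (Over.pullback f).obj T ⟶ X') :
    locus f X' U Y T' ((Over.pullback f).map g ≫ a) = g.left ⁻¹ᵁ locus f X' U Y T a := by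
  ext t
  change t ∈ locus f X' U Y T' _ ↔ g.left t ∈ locus f X' U Y T a
  rw [mem_locus, mem_locus]
  refine and_congr ⟨fun h z hz => ?_, fun h z hz => ?_⟩ ?_
  · obtain ⟨z', h1, h2⟩ := Scheme.exists_preimage_of_isPullback (isPullback_map f g) z t hz
    have := h z' h2
    rw [Over.comp_left, Scheme.Hom.comp_apply, h1] at this
    exact this
  · refine h _ ?_
    exact (congrArg (fun m : pullback T'.hom f ⟶ T.left => m z) (isPullback_map f g).w).trans
      (congrArg g.left hz)
  · rw [← Scheme.Hom.comp_apply, Over.w]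

variable [IsFinite f] [Flat f] [LocallyOfFinitePresentation f]

/-- The chart of an affine open of `X'` over an affine open of `S`. -/
theorem exists_chart (U : S.affineOpens) (Y : X'.left.Opens) (hY : IsAffineOpen Y)
    (hYU : ∀ y ∈ Y, f (X'.hom y) ∈ U.1) :
    ∃ (W : Over S) (u : (Over.pullback f).obj W ⟶ X'), locus f X' U.1 Y W u = ⊤ ∧
      ∀ (T : Over S) (a : (Over.pullback f).obj T ⟶ X'), locus f X' U.1 Y T a = ⊤ →
        ∃! g : T ⟶ W, (Over.pullback f).map g ≫ u = a := by
  let X'' : Over S' := Over.mk (Y.ι ≫ X'.hom)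
  let j : X'' ⟶ X' := Over.homMk Y.ι rfl
  have hV : IsAffineOpen (f ⁻¹ᵁ U.1) := U.2.preimage f
  letI : Algebra Γ(S, U.1) Γ(S', f ⁻¹ᵁ U.1) := (f.app U.1).hom.toAlgebra
  haveI : Module.Finite Γ(S, U.1) Γ(S', f ⁻¹ᵁ U.1) := f.finite_app U.1 U.2
  haveI : Module.Flat Γ(S, U.1) Γ(S', f ⁻¹ᵁ U.1) := by
    have := f.flat_appLE U.2 hV le_rfl
    rwa [← Scheme.Hom.app_eq_appLE] at this
  haveI : Algebra.FinitePresentation Γ(S, U.1) Γ(S', f ⁻¹ᵁ U.1) := by
    have := f.finitePresentation_appLE U.2 hV le_rfl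
    rwa [← Scheme.Hom.app_eq_appLE] at this
  haveI := Module.FinitePresentation.of_finite_of_finitePresentation (R := Γ(S, U.1)) (S := Γ(S', f ⁻¹ᵁ U.1))
  haveI : Module.Projective Γ(S, U.1) Γ(S', f ⁻¹ᵁ U.1) := Module.Flat.projective_of_finitePresentation
  have hB : IsPullback (Spec.map (CommRingCat.ofHom (algebraMap Γ(S, U.1) Γ(S', f ⁻¹ᵁ U.1)))) hV.fromSpec
      U.2.fromSpec f := by
    refine IsOpenImmersion.isPullback _ _ _ _ ?_ ?_
    · rw [← U.2.SpecMap_appLE_fromSpec f hV le_rfl, ← Scheme.Hom.app_eq_appLE]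
      rfl
    · rw [U.2.opensRange_fromSpec, hV.opensRange_fromSpec]
  have hr : Set.range (hY.isoSpec.inv ≫ X''.hom) ⊆ Set.range hV.fromSpec := by
    rw [hV.range_fromSpec]
    rintro _ ⟨z, rfl⟩
    exact hYU _ (hY.isoSpec.inv z).2
  obtain ⟨β, hβ⟩ := Spec.map_surjective (IsOpenImmersion.lift hV.fromSpec (hY.isoSpec.inv ≫ X''.hom) hr)
  have hD : IsPullback (Spec.map (CommRingCat.ofHom β.hom)) hY.isoSpec.inv hV.fromSpec X''.hom := by
    refine IsOpenImmersion.isPullback _ _ _ _ ?_ ?_
    · rw [CommRingCat.ofHom_hom, hβ, IsOpenImmersion.lift_fac]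
    · rw [hV.opensRange_fromSpec, Scheme.Hom.opensRange_of_isIso]
      exact top_le_iff.mp fun z _ => hYU _ z.2
  obtain ⟨W, u, -, hWin, hb⟩ := Affine.exists_chart_of_squares f X'' β.hom U.2.fromSpec hV.fromSpec
    hY.isoSpec.inv hB hD
  have e := U.2.opensRange_fromSpec
  have hbU : ∀ T : Over S, LiesIn T U.1 → BijAt u T :=
    bijAt_of_affine (Sheaf.isZSheaf f X'') U.1 fun T hT hTin => hb T hT fun x => e.symm ▸ hTin x
  refine ⟨W, u ≫ j, ?_, fun T a ha => ?_⟩
  · refine top_le_iff.mp fun w _ => (mem_locus f X' _ _ _ _ w).2 ⟨fun z _ => ?_, e ▸ hWin w⟩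
    rw [Over.comp_left, Scheme.Hom.comp_apply]
    exact (u.left z).2
  · have hall : ∀ t, t ∈ locus f X' U.1 Y T a := fun t => ha.ge (Set.mem_univ t)
    have hTin : LiesIn T U.1 := fun t => ((mem_locus f X' _ _ _ _ t).1 (hall t)).2
    have hrange : Set.range a.left ⊆ Set.range Y.ι := by
      rintro _ ⟨z, rfl⟩
      exact (range_ι Y).symm.subset (((mem_locus f X' _ _ _ _ _).1 (hall (pullback.fst T.hom f z))).1 z rfl)
    let a' : (Over.pullback f).obj T ⟶ X'' := Over.homMk (IsOpenImmersion.lift Y.ι a.left hrange)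
      ((Category.assoc _ _ _).symm.trans
        ((congrArg (· ≫ X'.hom) (IsOpenImmersion.lift_fac _ _ _)).trans (Over.w a)))
    have ha' : a' ≫ j = a := Over.OverMorphism.ext (IsOpenImmersion.lift_fac _ _ _)
    obtain ⟨g, hg, huniq⟩ := (hbU T hTin).existsUnique a'
    change (Over.pullback f).map g ≫ u = a' at hg
    refine ⟨g, by change _ ≫ u ≫ j = a; rw [← Category.assoc, hg, ha'], fun g' hg' => huniq g' ?_⟩
    change (Over.pullback f).map g' ≫ u = a'
    apply Over.OverMorphism.ext
    rw [← cancel_mono Y.ι]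
    refine congrArg CommaMorphism.left (?_ : ((Over.pullback f).map g' ≫ u) ≫ j = a' ≫ j)
    rw [Category.assoc, ha']
    exact hg'

/-- If each section maps each fibre into an affine open lying over an affine open of `S`, then the Weil
restriction of `X'` along `f` is representable. -/
theorem isRepresentable_of_fibres (H : ∀ (T : Over S) (a : (Over.pullback f).obj T ⟶ X') (t : T.left),
      ∃ (U : S.affineOpens) (Y : X'.left.Opens), IsAffineOpen Y ∧ (∀ y ∈ Y, f (X'.hom y) ∈ U.1) ∧
        T.hom t ∈ U.1 ∧ ∀ z : ↥(pullback T.hom f), pullback.fst T.hom f z = t → a.left z ∈ Y) :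
    ((Over.pullback f).op ⋙ yoneda.obj X').IsRepresentable := by
  let ι := {p : S.affineOpens × X'.left.Opens // IsAffineOpen p.2 ∧ ∀ y ∈ p.2, f (X'.hom y) ∈ p.1.1}
  choose W u htop hrep using fun i : ι => exists_chart f X' i.1.1 i.1.2 i.2.1 i.2.2
  refine Charts.isRepresentable_of_charts _ (Sheaf.isZSheaf f X') W u
    (fun i => locus f X' i.1.1.1 i.1.2) (fun i T T' g a => locus_act f X' _ _ T T' g a) htop hrep
    fun T a t => ?_
  obtain ⟨U, Y, hY, hYU, hU, hz⟩ := H T a t
  exact ⟨⟨(U, Y), hY, hYU⟩, (mem_locus f X' _ _ _ _ _).2 ⟨hz, hU⟩⟩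

/-- If finitely many points of `X'` over a common point of `S` lie in a common affine open lying over an affine
open of `S`, then the Weil restriction of `X'` along `f` is representable. -/
theorem isRepresentable (H : ∀ (s : S) (A : Set X'.left), A.Finite → (∀ x ∈ A, f (X'.hom x) = s) →
      ∃ (U : S.affineOpens) (Y : X'.left.Opens), IsAffineOpen Y ∧ (∀ y ∈ Y, f (X'.hom y) ∈ U.1) ∧
        s ∈ U.1 ∧ A ⊆ Y) :
    ((Over.pullback f).op ⋙ yoneda.obj X').IsRepresentable := by
  refine isRepresentable_of_fibres f X' fun T a t => ?_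
  let z : Set ↥(pullback T.hom f) := pullback.fst T.hom f ⁻¹' {t}
  have hz : z.Finite := (pullback.fst T.hom f).finite_preimage_singleton t
  obtain ⟨U, Y, hY, hYU, hsU, hAY⟩ := H (T.hom t) (a.left '' z) (hz.image _) (by
    rintro _ ⟨z, hz', rfl⟩
    rw [← Scheme.Hom.comp_apply, ← Scheme.Hom.comp_apply, ← Category.assoc, Over.w a]
    change (pullback.snd T.hom f ≫ f) z = _
    rw [← pullback.condition, Scheme.Hom.comp_apply, show pullback.fst T.hom f z = t from hz'])
  exact ⟨U, Y, hY, hYU, hsU, fun z hz' => hAY ⟨z, hz', rfl⟩⟩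

end Groth.Agent.Lib.WeilRep.AF
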