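import Groth.Agent.Lib.ActSep.HomogBC
import Groth.Agent.Lib.Homog.Basic
import Groth.Agent.Lib.RedPts.BC
import Groth.Agent.Lib.WeilRep.AF
import Groth.Agent.Lib.DescAlg.Descends

/-!
# Base change of quotients, and descent of affineness along field extensions
-/

set_option autoImplicit false
set_option backward.isDefEq.respectTransparency false
set_option linter.style.haveILetI false
set_option synthInstance.maxHeartbeats 200000

universe u

open CategoryTheory CategoryTheory.Limits AlgebraicGeometry MonoidalCategory CartesianMonoidalCategory MonObj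
open Groth.Agent.Lib Groth.Agent.Lib.RedPts

namespace Groth.Agent.Lib.WeilRep.QuotBC

open Groth.Agent.Lib.ActSep.HomogX

variable {S S' : Scheme.{u}} (r : S' ⟶ S) {G H X : Over S} [GrpObj G] [GrpObj H] (a : AlgGrp.Action G X)
  (o : 𝟙_ (Over S) ⟶ X)

/-- The base change of a section. -/
noncomputable def pt : 𝟙_ (Over S') ⟶ Red.bc r X := BC.up r (toUnit _ ≫ o)

theorem down_lift_act {T : Over S'} (x : T ⟶ Red.bc r G) (y : T ⟶ Red.bc r X) :
    BC.down r (lift x y ≫ (bcAct r a).act) = lift (BC.down r x) (BC.down r y) ≫ a.act := by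
  show BC.down r (lift x y ≫ Functor.LaxMonoidal.μ (Over.pullback r) G X ≫ (Over.pullback r).map a.act) = _
  rw [← Category.assoc, BC.down_map]
  congr 1
  apply CartesianMonoidalCategory.hom_ext
  · rw [lift_fst, ← BC.down_map, Category.assoc, (bcAct_fst_snd r (G := G) (X := X)).1, lift_fst]
  · rw [lift_snd, ← BC.down_map, Category.assoc, (bcAct_fst_snd r (G := G) (X := X)).2, lift_snd]

theorem orbitMap_bcAct : (bcAct r a).orbitMap (pt r o) = (Over.pullback r).map (a.orbitMap o) := by
  refine BC.down_injective ?_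
  rw [show (Over.pullback r).map (a.orbitMap o) = 𝟙 (Red.bc r G) ≫ (Over.pullback r).map (a.orbitMap o) from
      (Category.id_comp _).symm, BC.down_map, GrpSch.comp_orbit, AlgGrp.Action.orbitMap, down_lift_act,
    BC.down_comp, pt, BC.down_up, ← Category.assoc,
    toUnit_unique ((Over.map r).map (toUnit (Red.bc r G)) ≫ toUnit _) (toUnit _)]

/-- Points of a base change with the same image differ by a point of the subgroup. -/
theorem exists_rel_bc {i : H ⟶ G}
    (hq : IsPullback (fst G H) ((G ◁ i) ≫ μ[G]) (a.orbitMap o) (a.orbitMap o))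
    {T : Over S'} (g g' : T ⟶ Red.bc r G)
    (e : g ≫ (Over.pullback r).map (a.orbitMap o) = g' ≫ (Over.pullback r).map (a.orbitMap o)) :
    ∃ h : T ⟶ Red.bc r H, g' = g * (h ≫ (Over.pullback r).map i) := by
  have e' := congrArg (BC.down r) e
  rw [BC.down_map, BC.down_map] at e'
  obtain ⟨h, hh⟩ := Homog.exists_rel hq _ _ e'
  refine ⟨BC.up r h, BC.down_injective ?_⟩
  rw [BC.down_mul, BC.down_map, BC.down_up, hh]

/-- The base change of a quotient is a quotient. -/
theorem isQuotient_bc {i : H ⟶ G} [IsMonHom i] [Mono i] (hX : AGF.IsQuotient i X a o) :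
    AGF.IsQuotient ((Over.pullback r).map i) (Red.bc r X) (bcAct r a) (pt r o) := by
  obtain ⟨hXt, hXf, hXs, hpb⟩ := hX
  haveI := hXt
  haveI : LocallyOfFiniteType (Red.bc r X).hom := inferInstanceAs (LocallyOfFiniteType (pullback.snd X.hom r))
  have sq := (AF.isPullback_map r (a.orbitMap o)).flip
  haveI hi' : Mono ((Over.pullback r).map i) := ⟨fun u v huv => BC.down_injective ((cancel_mono i).1 (by
    rw [← BC.down_map, ← BC.down_map, huv]))⟩
  refine ⟨inferInstance, ?_, ?_, ?_⟩
  · rw [orbitMap_bcAct]; exact MorphismProperty.of_isPullback (P := @Flat) sq hXf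
  · rw [orbitMap_bcAct]; exact MorphismProperty.of_isPullback (P := @Surjective) sq hXs
  refine Homog.isPullback_pair ⟨⟨?_⟩, ?_⟩
  · refine BC.down_injective ?_
    rw [orbitMap_bcAct, BC.down_map, BC.down_comp, pt, BC.down_up, ← Category.assoc,
      toUnit_unique ((Over.map r).map (toUnit (Red.bc r H)) ≫ toUnit _) (toUnit _),
      show (Over.pullback r).map i = 𝟙 (Red.bc r H) ≫ (Over.pullback r).map i from (Category.id_comp _).symm,
      BC.down_map, Category.assoc, Homog.comp_orbit_of_quotient hpb, ← Category.assoc, toUnit_unique (_ ≫ toUnit H) (toUnit _)]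
  · have key : ∀ {T : Over S'} (x : T ⟶ Red.bc r G),
        x ≫ (bcAct r a).orbitMap (pt r o) = toUnit T ≫ pt r o →
          ∃ w : T ⟶ Red.bc r H, w ≫ (Over.pullback r).map i = x := by
      intro T x hx
      obtain ⟨h, hh⟩ := exists_rel_bc r a o hpb 1 x (by
        rw [← orbitMap_bcAct, hx, Hom.one_def, Category.assoc, GrpSch.η_orbit])
      exact ⟨h, by rw [hh, _root_.one_mul]⟩
    exact ⟨PullbackCone.IsLimit.mk _
      (fun s => (key s.fst (s.condition.trans (by rw [toUnit_unique s.snd (toUnit _)]))).choose)
      (fun s => (key s.fst (s.condition.trans (by rw [toUnit_unique s.snd (toUnit _)]))).choose_spec)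
      (fun s => toUnit_unique _ _)
      (fun s w hw _ => (cancel_mono ((Over.pullback r).map i)).1 (hw.trans
        (key s.fst (s.condition.trans (by rw [toUnit_unique s.snd (toUnit _)]))).choose_spec.symm))⟩

/-- Affineness descends along a field extension. -/
theorem isAffine_of_bc {k K : Type u} [Field k] [Field K] [Algebra k K] (X : Over (Spec (CommRingCat.of k)))
    (h : IsAffine (Red.bc (Spec.map (CommRingCat.ofHom (algebraMap k K))) X).left) : IsAffine X.left := by
  let f := Spec.map (CommRingCat.ofHom (algebraMap k K))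
  haveI : Surjective f := ⟨fun y => ⟨IsLocalRing.closedPoint K, Subsingleton.elim (α := ↥(Spec (CommRingCat.of k))) _ y⟩⟩
  haveI : Flat f := Flat.SpecMap_iff.mpr (RingHom.flat_algebraMap_iff.mpr inferInstance)
  haveI := h
  haveI : IsAffineHom (pullback.snd X.hom f) := inferInstanceAs (IsAffineHom (Red.bc f X).hom)
  have h : IsAffineHom X.hom :=
    MorphismProperty.of_pullback_snd_of_descendsAlong (P := @IsAffineHom)
      (Q := (@Surjective ⊓ @Flat ⊓ @QuasiCompact : MorphismProperty Scheme.{u})) (f := X.hom) (g := f)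
      ⟨⟨inferInstance, inferInstance⟩, inferInstance⟩ inferInstance
  exact isAffine_of_isAffineHom X.hom

end Groth.Agent.Lib.WeilRep.QuotBC
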