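import Mathlib.AlgebraicGeometry.RelativeGluing
import Mathlib.AlgebraicGeometry.Morphisms.Affine
import Mathlib.AlgebraicGeometry.Pullbacks
import Mathlib.CategoryTheory.Yoneda

/-!
# Representability of Zariski sheaves on schemes over a base is local on the base

`exists_affine_rep`: a presheaf on `Over S` which is a Zariski sheaf and which, over every affine open `U`
of `S`, is represented on affine test schemes by an affine scheme, is representable by a scheme affine over `S`.
-/

set_option autoImplicit false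
set_option linter.style.haveILetI false
set_option backward.isDefEq.respectTransparency false
set_option backward.isDefEq.respectTransparency.types false

noncomputable section

universe u

open CategoryTheory CategoryTheory.Limits AlgebraicGeometry Opposite TopologicalSpace

namespace Groth.Agent.Lib.WeilRep.Glue

variable {S : Scheme.{u}}

/-- The action of a morphism on sections. -/
abbrev act (F : (Over S)ᵒᵖ ⥤ Type u) {T' T : Over S} (g : T' ⟶ T) (a : F.obj (op T)) : F.obj (op T') :=
  F.map g.op a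

theorem act_comp (F : (Over S)ᵒᵖ ⥤ Type u) {T'' T' T : Over S} (g' : T'' ⟶ T') (g : T' ⟶ T)
    (a : F.obj (op T)) : act F (g' ≫ g) a = act F g' (act F g a) :=
  Functor.map_comp_apply F g.op g'.op a

theorem act_id (F : (Over S)ᵒᵖ ⥤ Type u) {T : Over S} (a : F.obj (op T)) : act F (𝟙 T) a = a :=
  Functor.map_id_apply F (op T) a

/-- The restriction of `T` to an open. -/
abbrev res (T : Over S) (V : T.left.Opens) : Over S := Over.mk (V.ι ≫ T.hom)

/-- The inclusion of an open. -/
abbrev resι (T : Over S) (V : T.left.Opens) : res T V ⟶ T := Over.homMk V.ι rfl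

/-- The inclusion of opens. -/
abbrev resLE (T : Over S) {V W : T.left.Opens} (h : V ≤ W) : res T V ⟶ res T W :=
  Over.homMk (T.left.homOfLE h) (by simp)

theorem resLE_resι (T : Over S) {V W : T.left.Opens} (h : V ≤ W) :
    resLE T h ≫ resι T W = resι T V := by
  ext1; simp

/-- The range of the structure morphism of `T` lies in `U`. -/
abbrev LiesIn (T : Over S) (U : S.Opens) : Prop := ∀ x, T.hom x ∈ U

theorem LiesIn.of_hom {T' T : Over S} {U : S.Opens} (h : LiesIn T U) (g : T' ⟶ T) : LiesIn T' U := fun x => by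
  rw [← Over.w g]; exact h _

theorem range_ι {X : Scheme.{u}} (V : X.Opens) : Set.range (V.ι : V.toScheme → X) = V :=
  Scheme.Opens.range_ι V

/-- A Zariski sheaf on schemes over `S`. -/
structure IsZSheaf (F : (Over S)ᵒᵖ ⥤ Type u) : Prop where
  sep : ∀ (T : Over S) (a b : F.obj (op T)),
    (∀ x, ∃ V, x ∈ V ∧ act F (resι T V) a = act F (resι T V) b) → a = b
  glue : ∀ (T : Over S) (ι : Type u) (V : ι → T.left.Opens), (∀ x, ∃ i, x ∈ V i) →
    ∀ a : ∀ i, F.obj (op (res T (V i))),
    (∀ i j, act F (resLE T (inf_le_left : V i ⊓ V j ≤ V i)) (a i) = act F (resLE T inf_le_right) (a j)) →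
    ∃ b, ∀ i, act F (resι T (V i)) b = a i

theorem hom_ext_res {T W : Over S} {g g' : T ⟶ W}
    (h : ∀ x, ∃ V, x ∈ V ∧ resι T V ≫ g = resι T V ≫ g') : g = g' := by
  choose V hV hg using h
  ext1
  refine (T.left.openCoverOfIsOpenCover V (IsOpenCover.mk (top_le_iff.mp fun x _ =>
    Opens.mem_iSup.mpr ⟨x, hV x⟩))).hom_ext _ _ fun x => ?_
  exact congrArg CommaMorphism.left (hg x)

theorem exists_hom_res {T W : Over S} {ι : Type u} (V : ι → T.left.Opens) (hV : ∀ x, ∃ i, x ∈ V i)
    (g : ∀ i, res T (V i) ⟶ W)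
    (hg : ∀ i j, resLE T (inf_le_left : V i ⊓ V j ≤ V i) ≫ g i = resLE T inf_le_right ≫ g j) :
    ∃ h : T ⟶ W, ∀ i, resι T (V i) ≫ h = g i := by
  let 𝒰 := T.left.openCoverOfIsOpenCover V (IsOpenCover.mk (top_le_iff.mp fun x _ =>
    Opens.mem_iSup.mpr (hV x)))
  have hc : ∀ i j : ι, pullback.fst (V i).ι (V j).ι ≫ (g i).left = pullback.snd (V i).ι (V j).ι ≫ (g j).left := by
    intro i j
    have hP := isPullback_opens_inf (V i) (V j)
    rw [← cancel_epi hP.isoPullback.hom, hP.isoPullback_hom_fst_assoc, hP.isoPullback_hom_snd_assoc]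
    exact congrArg CommaMorphism.left (hg i j)
  refine ⟨Over.homMk (𝒰.glueMorphisms (fun i => (g i).left) hc) (𝒰.hom_ext _ _ fun i => ?_), fun i => ?_⟩
  · exact (Category.assoc _ _ _).symm.trans
      ((congrArg (· ≫ W.hom) (𝒰.ι_glueMorphisms _ hc i)).trans (Over.w (g i)))
  · ext1
    exact 𝒰.ι_glueMorphisms _ hc i

variable {F : (Over S)ᵒᵖ ⥤ Type u} {W : Over S} {u : F.obj (op W)}

variable (u) in
/-- The candidate universal element `u` is universal at `T`. -/
abbrev BijAt (T : Over S) : Prop := Function.Bijective fun g : T ⟶ W => act F g u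

variable (u) in
/-- The candidate universal element `u` is injective at `T`. -/
abbrev InjAt (T : Over S) : Prop := Function.Injective fun g : T ⟶ W => act F g u

theorem injAt_of_local {T : Over S} (h : ∀ x, ∃ V, x ∈ V ∧ InjAt u (res T V)) : InjAt u T := by
  intro g g' hgg'
  refine hom_ext_res fun x => ?_
  obtain ⟨V, hV, hi⟩ := h x
  refine ⟨V, hV, hi ?_⟩
  change act F _ u = act F _ u
  rw [act_comp, act_comp, show act F g u = act F g' u from hgg']

theorem bijAt_of_cover (hF : IsZSheaf F) {T : Over S} {ι : Type u} (V : ι → T.left.Opens)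
    (hV : ∀ x, ∃ i, x ∈ V i) (hb : ∀ i, BijAt u (res T (V i)))
    (hi : ∀ i j, InjAt u (res T (V i ⊓ V j))) : BijAt u T := by
  refine ⟨injAt_of_local fun x => ?_, fun a => ?_⟩
  · obtain ⟨i, hi'⟩ := hV x
    exact ⟨V i, hi', (hb i).1⟩
  · choose g hg using fun i => (hb i).2 (act F (resι T (V i)) a)
    change ∀ i, act F (g i) u = act F (resι T (V i)) a at hg
    obtain ⟨h, hh⟩ := exists_hom_res V hV g fun i j => hi i j (by
      change act F _ u = act F _ u
      rw [act_comp, act_comp, hg, hg, ← act_comp, ← act_comp, resLE_resι, resLE_resι])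
    refine ⟨h, hF.sep T _ _ fun x => ?_⟩
    obtain ⟨i, hi'⟩ := hV x
    exact ⟨V i, hi', by rw [← act_comp, hh, hg]⟩

/-- Universality on affine test schemes lying over `U` implies universality on all of them. -/
theorem bijAt_of_affine (hF : IsZSheaf F) (U : S.Opens)
    (hb : ∀ T : Over S, IsAffine T.left → LiesIn T U → BijAt u T) (T : Over S) (hT : LiesIn T U) :
    BijAt u T := by
  have hinj : ∀ T : Over S, LiesIn T U → InjAt u T := fun T hT => injAt_of_local fun x => by
    obtain ⟨V, hV, hxV, -⟩ := exists_isAffineOpen_mem_and_subset (X := T.left) (x := x) (U := ⊤) trivial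
    exact ⟨V, hxV, (hb (res T V) hV (hT.of_hom (resι T V))).1⟩
  refine bijAt_of_cover hF (fun V : T.left.affineOpens => V.1) (fun x => ?_)
    (fun V => hb _ V.2 (hT.of_hom (resι T V.1))) fun V V' => hinj _ (hT.of_hom (resι T _))
  obtain ⟨V, hV, hxV, -⟩ := exists_isAffineOpen_mem_and_subset (X := T.left) (x := x) (U := ⊤) trivial
  exact ⟨⟨V, hV⟩, hxV⟩

/-- Universality everywhere gives a representation. -/
def representableBy (hb : ∀ T, BijAt u T) : F.RepresentableBy W where
  homEquiv {T} := Equiv.ofBijective _ (hb T)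
  homEquiv_comp g g' := act_comp F g g' u

variable (F) in
/-- Representability of a Zariski sheaf on schemes over `S` is local on `S`. -/
theorem exists_affine_rep (hF : IsZSheaf F)
    (loc : ∀ U : S.affineOpens, ∃ (W : Over S) (u : F.obj (op W)), IsAffine W.left ∧ LiesIn W U.1 ∧
      ∀ T : Over S, IsAffine T.left → LiesIn T U.1 → BijAt u T) :
    ∃ G : Over S, IsAffineHom G.hom ∧ Nonempty (F.RepresentableBy G) := by
  choose W u hWaff hWin hbaff using loc
  have hb : ∀ (U : S.affineOpens) (T : Over S), LiesIn T U.1 → BijAt (u U) T := fun U T hT =>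
    bijAt_of_affine hF U.1 (hbaff U) T hT
  have htr : ∀ {U U' : S.affineOpens}, U ≤ U' → ∃ l : W U ⟶ W U', act F l (u U') = u U := fun {U U'} h =>
    (hb U' (W U) fun x => h (hWin U x)).2 (u U)
  choose l hl using @htr
  have hlext : ∀ {U' : S.affineOpens} {T : Over S} (a b : T ⟶ W U'), LiesIn T U'.1 →
      act F a (u U') = act F b (u U') → a = b := fun a b hT e => (hb _ _ hT).1 e
  let π : ∀ U : S.affineOpens, (W U).left ⟶ U.1.toScheme := fun U =>
    IsOpenImmersion.lift U.1.ι (W U).hom (by rintro _ ⟨x, rfl⟩; simpa using hWin U x)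
  have hπ : ∀ U, π U ≫ U.1.ι = (W U).hom := fun U => IsOpenImmersion.lift_fac _ _ _
  have hπl : ∀ {U U' : S.affineOpens} (h : U ≤ U'),
      (l h).left ≫ π U' = π U ≫ S.homOfLE h := fun {U U'} h => by
    rw [← cancel_mono U'.1.ι, Category.assoc, hπ, Category.assoc, Scheme.homOfLE_ι, hπ, Over.w]
  -- the transition maps are open immersions onto preimages
  have hopen : ∀ {U U' : S.affineOpens} (h : U ≤ U'),
      IsPullback (π U) (l h).left (S.homOfLE h) (π U') := fun {U U'} h => by
    let V : (W U').left.Opens := (W U').hom ⁻¹ᵁ U.1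
    have hV : LiesIn (res (W U') V) U.1 := fun x => x.2
    obtain ⟨g, hg⟩ := (hb U _ hV).2 (act F (resι _ V) (u U'))
    change act F g (u U) = _ at hg
    have hgl : g ≫ l h = resι _ V := hlext _ _ (fun x => h (hV x)) (by rw [act_comp, hl, hg])
    let g' : W U ⟶ res (W U') V := Over.homMk
      (IsOpenImmersion.lift V.ι (l h).left (by
        rintro _ ⟨x, rfl⟩
        refine (range_ι V).symm.subset ?_
        change (W U').hom ((l h).left x) ∈ U.1
        rw [← Scheme.Hom.comp_apply, Over.w]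
        exact hWin U x))
      ((Category.assoc _ _ _).symm.trans
        ((congrArg (· ≫ (W U').hom) (IsOpenImmersion.lift_fac _ _ _)).trans (Over.w (l h))))
    have hg' : g' ≫ resι _ V = l h := by ext1; exact IsOpenImmersion.lift_fac _ _ _
    have e1 : g' ≫ g = 𝟙 _ := hlext _ _ (hWin U) (by
      rw [act_comp, hg, ← act_comp, hg', hl, act_id])
    have e2 : g ≫ g' = 𝟙 _ := by
      ext1
      rw [← cancel_mono V.ι]
      refine (congrArg CommaMorphism.left (?_ : (g ≫ g') ≫ resι _ V = 𝟙 _ ≫ resι _ V))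
      rw [Category.assoc, hg', hgl, Category.id_comp]
    haveI : IsIso g' := ⟨g, e1, e2⟩
    haveI : IsIso g'.left := inferInstanceAs (IsIso ((Over.forget S).map g'))
    have he : g'.left ≫ V.ι = (l h).left := congrArg CommaMorphism.left hg'
    haveI : IsOpenImmersion (l h).left := by rw [← he]; infer_instance
    refine IsOpenImmersion.isPullback _ _ _ _ (hπl h) ?_
    have hr : (l h).left.opensRange = V := by
      ext1
      rw [Scheme.Hom.coe_opensRange, ← he, Scheme.Hom.comp_base, TopCat.coe_comp,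
        Set.range_comp, Set.range_eq_univ.mpr g'.left.surjective, Set.image_univ]; exact range_ι V
    rw [hr, Scheme.opensRange_homOfLE, ← Scheme.Hom.comp_preimage, hπ]
  let F' : S.affineOpens ⥤ Scheme.{u} :=
    { obj U := (W U).left
      map {U U'} i := (l (leOfHom i)).left
      map_id U := congrArg CommaMorphism.left (hlext _ (𝟙 _) (hWin U) (by rw [hl, act_id]))
      map_comp {U U' U''} i j := congrArg CommaMorphism.left (hlext _ (l (leOfHom i) ≫ l (leOfHom j))
        (fun x => leOfHom (i ≫ j) (hWin U x)) (by rw [act_comp, hl, hl, hl])) }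
  let d : S.directedAffineCover.RelativeGluingData :=
    { functor := F'
      natTrans :=
        { app U := π U
          naturality U U' i := hπl (leOfHom i) }
      equifibered := fun {U U'} i => (hopen (leOfHom i)).flip }
  have : Small.{u} S.directedAffineCover.I₀ := inferInstanceAs (Small.{u} S.affineOpens)
  have : Quiver.IsThin S.directedAffineCover.I₀ :=
    fun (a b : S.affineOpens) ↦ inferInstanceAs (Subsingleton (a ⟶ b))
  have hld : (d.functor ⋙ Scheme.forget).IsLocallyDirected :=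
    Scheme.Cover.RelativeGluingData.instIsLocallyDirectedI₀CompFunctorForgetOfIsThin d
  have hop : ∀ {i j} (f : i ⟶ j), IsOpenImmersion (d.functor.map f) := fun f ↦
    Scheme.Cover.RelativeGluingData.instIsOpenImmersionMapI₀Functor d f
  have hcol : HasColimit d.functor := inferInstance
  let G : Over S := Over.mk d.toBase
  let ι : ∀ U : S.affineOpens, W U ⟶ G := fun U => Over.homMk (colimit.ι d.functor U) (by
    refine (d.ι_toBase U).trans ?_
    exact hπ U)
  have hιo : ∀ U, IsOpenImmersion (ι U).left := fun U => d.cover.map_prop U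
  have hrange : ∀ U : S.affineOpens, G.hom ⁻¹ᵁ U.1 = (ι U).left.opensRange := fun U => by
    haveI : IsOpenImmersion (S.directedAffineCover.f U) := S.directedAffineCover.map_prop U
    have := d.toBase_preimage_eq_opensRange_ι U
    rwa [show (S.directedAffineCover.f U).opensRange = U.1 from Scheme.Opens.opensRange_ι U.1] at this
  have hιl : ∀ {U U' : S.affineOpens} (h : U ≤ U'), l h ≫ ι U' = ι U := fun {U U'} h => by
    ext1; exact colimit.w d.functor (homOfLE h)
  -- lifting to the charts
  have hlift : ∀ (U : S.affineOpens) {T : Over S}, LiesIn T U.1 → ∀ g : T ⟶ G, ∃ γ : T ⟶ W U, γ ≫ ι U = g := by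
    intro U T hT g
    have : Set.range g.left ⊆ Set.range (ι U).left := by
      rintro _ ⟨x, rfl⟩
      have hx : g.left x ∈ G.hom ⁻¹ᵁ U.1 := by
        change G.hom (g.left x) ∈ U.1
        rw [← Scheme.Hom.comp_apply, Over.w]; exact hT x
      rw [hrange] at hx
      exact hx
    refine ⟨Over.homMk (IsOpenImmersion.lift (ι U).left g.left this) ?_, ?_⟩
    · rw [← Over.w (ι U), IsOpenImmersion.lift_fac_assoc, Over.w]
    · ext1; exact IsOpenImmersion.lift_fac _ _ _
  have hin : ∀ U : S.affineOpens, LiesIn (res G (G.hom ⁻¹ᵁ U.1)) U.1 := fun U x => x.2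
  choose σ hσ using fun U => hlift U (hin U) (resι G (G.hom ⁻¹ᵁ U.1))
  obtain ⟨v, hv⟩ := hF.glue G S.affineOpens (fun U => G.hom ⁻¹ᵁ U.1)
    (fun x => by
      obtain ⟨V, hV, hxV, -⟩ := exists_isAffineOpen_mem_and_subset (X := S) (x := G.hom x) (U := ⊤) trivial
      exact ⟨⟨V, hV⟩, hxV⟩)
    (fun U => act F (σ U) (u U)) fun U U' => by
    refine hF.sep _ _ _ fun x => ?_
    let D := res G (G.hom ⁻¹ᵁ U.1 ⊓ G.hom ⁻¹ᵁ U'.1)
    obtain ⟨V, hV, hxV, hle⟩ := exists_isAffineOpen_mem_and_subset (X := S) (x := D.hom x)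
      (U := U.1 ⊓ U'.1) (show _ ∈ U.1 ⊓ U'.1 from ⟨x.2.1, x.2.2⟩)
    refine ⟨D.hom ⁻¹ᵁ V, hxV, ?_⟩
    have hT : LiesIn (res D (D.hom ⁻¹ᵁ V)) V := fun y => y.2
    let i₀ : res D (D.hom ⁻¹ᵁ V) ⟶ G := resι D _ ≫ resι G _
    obtain ⟨γ, hγ⟩ := hlift ⟨V, hV⟩ hT i₀
    have key : ∀ (U'' : S.affineOpens) (hle' : (⟨V, hV⟩ : S.affineOpens) ≤ U'')
        (p : res D (D.hom ⁻¹ᵁ V) ⟶ res G (G.hom ⁻¹ᵁ U''.1)), p ≫ resι G _ = i₀ →
        act F p (act F (σ U'') (u U'')) = act F γ (u ⟨V, hV⟩) := fun U'' hle' p hp => by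
      have e : p ≫ σ U'' = γ ≫ l hle' := by
        ext1
        haveI := hιo U''
        rw [← cancel_mono (ι U'').left]
        refine congrArg CommaMorphism.left (?_ : (p ≫ σ U'') ≫ ι U'' = (γ ≫ l hle') ≫ ι U'')
        rw [Category.assoc, hσ, hp, Category.assoc, hιl, hγ]
      rw [← act_comp, e, act_comp, hl]
    rw [← act_comp F (resι D _) (resLE G inf_le_left), ← act_comp F (resι D _) (resLE G inf_le_right)]
    exact (key U (fun y hy => (hle hy).1) _ (by rw [Category.assoc, resLE_resι])).trans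
      (key U' (fun y hy => (hle hy).2) _ (by rw [Category.assoc, resLE_resι])).symm
  have hvι : ∀ U, act F (ι U) v = u U := fun U => by
    let σ' : W U ⟶ res G (G.hom ⁻¹ᵁ U.1) := Over.homMk
      (IsOpenImmersion.lift (G.hom ⁻¹ᵁ U.1).ι (ι U).left (by
        exact le_of_le_of_eq (le_of_eq (by rw [hrange]; rfl)) (range_ι _).symm))
      ((Category.assoc _ _ _).symm.trans
        ((congrArg (· ≫ G.hom) (IsOpenImmersion.lift_fac _ _ _)).trans (Over.w (ι U))))
    have hσ' : σ' ≫ resι G _ = ι U := by ext1; exact IsOpenImmersion.lift_fac _ _ _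
    have : σ' ≫ σ U = 𝟙 _ := by
      ext1
      haveI := hιo U
      rw [← cancel_mono (ι U).left]
      refine congrArg CommaMorphism.left (?_ : (σ' ≫ σ U) ≫ ι U = 𝟙 _ ≫ ι U)
      rw [Category.assoc, hσ, hσ', Category.id_comp]
    rw [← hσ', act_comp, hv, ← act_comp, this, act_id]
  have hbU : ∀ (U : S.affineOpens) (T : Over S), LiesIn T U.1 → BijAt v T := by
    intro U T hT
    refine ⟨fun g g' e => ?_, fun a => ?_⟩
    · obtain ⟨γ, rfl⟩ := hlift U hT g
      obtain ⟨γ', rfl⟩ := hlift U hT g'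
      change act F _ v = act F _ v at e
      rw [act_comp, act_comp, hvι] at e
      rw [hlext γ γ' hT e]
    · obtain ⟨γ, hγ⟩ := (hb U T hT).2 a
      exact ⟨γ ≫ ι U, by change act F _ v = a; rw [act_comp, hvι]; exact hγ⟩
  refine ⟨G, isAffineHom_of_forall_exists_isAffineOpen _ fun x => ?_, ⟨representableBy fun T =>
    bijAt_of_cover hF (fun U : S.affineOpens => T.hom ⁻¹ᵁ U.1) (fun x => ?_)
      (fun U => hbU U _ fun y => y.2) fun U U' => (hbU U (res T (T.hom ⁻¹ᵁ U.1 ⊓ T.hom ⁻¹ᵁ U'.1)) fun y => y.2.1).1⟩⟩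
  · obtain ⟨V, hV, hxV, -⟩ := exists_isAffineOpen_mem_and_subset (X := S) (x := x) (U := ⊤) trivial
    refine ⟨V, hxV, hV, ?_⟩
    rw [hrange ⟨V, hV⟩]
    haveI := hWaff ⟨V, hV⟩
    haveI := hιo ⟨V, hV⟩
    exact isAffineOpen_opensRange _
  · obtain ⟨V, hV, hxV, -⟩ := exists_isAffineOpen_mem_and_subset (X := S) (x := T.hom x) (U := ⊤) trivial
    exact ⟨⟨V, hV⟩, hxV⟩

end Groth.Agent.Lib.WeilRep.Glue
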