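import Groth.Agent.Lib.WeilRep.AF
import Groth.Agent.Lib.Ferrand.Finite

/-!
# Morphism functors out of finite locally free schemes are representable for AF targets
-/

set_option autoImplicit false
set_option linter.style.haveILetI false

noncomputable section

universe u

open CategoryTheory CategoryTheory.Limits AlgebraicGeometry Opposite TopologicalSpace

namespace Groth.Agent.Lib.WeilRep.AFMor

variable {S Z X : Scheme.{u}} (g : Z ⟶ S) [IsFinite g] [Flat g] [LocallyOfFinitePresentation g] (x : X ⟶ S)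

theorem isRepresentable (hAF : ∀ (s : S) (A : Set X), A.Finite → (∀ a ∈ A, x a = s) →
      ∃ U : X.Opens, IsAffineOpen U ∧ A ⊆ U) :
    ((Over.pullback g ⋙ Over.map g).op ⋙ yoneda.obj (Over.mk x)).IsRepresentable := by
  obtain ⟨G, ⟨r⟩⟩ := AF.isRepresentable g ((Over.pullback g).obj (Over.mk x)) fun s A hA hAs => by
    have hw : ∀ a : ↥(pullback x g), x (pullback.fst x g a) = g (pullback.snd x g a) := fun a => by
      rw [← Scheme.Hom.comp_apply, pullback.condition, Scheme.Hom.comp_apply]
    let p : ↥(pullback x g) → X := fun a => pullback.fst x g a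
    have hAs' : ∀ b ∈ p '' A, x b = s := by
      rintro _ ⟨a, ha, rfl⟩
      exact (hw a).trans (hAs a ha)
    obtain ⟨U, hU, hAU⟩ := hAF s _ (hA.image p) hAs'
    obtain ⟨V, hV, hsV, -⟩ := exists_isAffineOpen_mem_and_subset (X := S) (x := s) (U := ⊤) trivial
    obtain ⟨r, hr, hAr⟩ := Ferrand.exists_basicOpen_finite_le hU (hA.image p) hAU
      (x ⁻¹ᵁ V) (fun b hb => show x b ∈ V from (hAs' b hb).symm ▸ hsV)
    haveI : IsAffineHom (pullback.fst x g) := MorphismProperty.pullback_fst x g inferInstance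
    refine ⟨⟨V, hV⟩, pullback.fst x g ⁻¹ᵁ X.basicOpen r, (hU.basicOpen r).preimage _,
      fun y hy => (hw y ▸ hr hy : g (pullback.snd x g y) ∈ V), hsV, fun a ha => hAr ⟨a, ha, rfl⟩⟩
  exact ⟨G, ⟨{
    homEquiv := fun {T} => r.homEquiv.trans ((Over.mapPullbackAdj g).homEquiv _ _).symm
    homEquiv_comp := fun k k' => by
      simp only [Equiv.trans_apply, r.homEquiv_comp]
      exact (Over.mapPullbackAdj g).homEquiv_naturality_left_symm _ _ }⟩⟩

end Groth.Agent.Lib.WeilRep.AFMor
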