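import Groth.Agent.Lib.WeilRep.Alg
import Mathlib.RingTheory.FinitePresentation

/-!
# Finiteness properties of the Weil restriction of algebras
-/

set_option autoImplicit false
set_option backward.isDefEq.respectTransparency false

universe u

open TensorProduct

namespace Groth.Agent.Lib.WeilRep.AlgFinite

open Alg

theorem exists_lift {X Y Z : Type u} [CommRing X] [CommRing Y] [CommRing Z] (π : X →+* Y)
    (hπ : Function.Surjective π) (g : X →+* Z) (h : ∀ x, π x = 0 → g x = 0) :
    ∃ g' : Y →+* Z, ∀ x, g' (π x) = g x :=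
  ⟨RingHom.liftOfSurjective π hπ ⟨g, h⟩, RingHom.liftOfSurjective_comp_apply π hπ ⟨g, h⟩⟩

variable {R : Type u} [CommRing R] {B : Type u} [CommRing B] [Algebra R B]
  {D : Type u} [CommRing D] (β : B →+* D)

/-- `ψ : D → P ⊗ B` is universal among `B`-algebra maps `D → A ⊗ B`. -/
def IsUniv (P : Type u) [CommRing P] [Algebra R P] (ψ : D →+* P ⊗[R] B) : Prop :=
  ψ.comp β = (Algebra.TensorProduct.includeRight (R := R) (A := P) (B := B)).toRingHom ∧
    ∀ (A : Type u) [CommRing A] [Algebra R A] (φ : D →+* A ⊗[R] B),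
      φ.comp β = (Algebra.TensorProduct.includeRight (R := R) (A := A) (B := B)).toRingHom →
      ∃! h : P →ₐ[R] A, (Algebra.TensorProduct.map h (AlgHom.id R B)).toRingHom.comp ψ = φ

theorem exists_isUniv [Module.Finite R B] [Module.Projective R B] :
    ∃ (P : Type u) (_ : CommRing P) (_ : Algebra R P) (ψ : D →+* P ⊗[R] B), IsUniv β P ψ := by
  obtain ⟨P, i1, i2, ψ, h1, h2⟩ := exists_weilRes D β (R := R) (B := B)
  exact ⟨P, i1, i2, ψ, h1, h2⟩

/-- A presentation of `D` over `B` gives a presentation of the Weil restriction over `R`: it is the quotient of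
a polynomial ring in finitely many variables by finitely many relations, the variables going to the coordinates
of the images of the generators. -/
theorem finitePresentation [Module.Finite R B] [Module.Projective R B]
    (hD : letI := β.toAlgebra; Algebra.FinitePresentation B D)
    {P : Type u} [CommRing P] [Algebra R P] {ψ : D →+* P ⊗[R] B} (hP : IsUniv β P ψ) :
    Algebra.FinitePresentation R P := by
  let := β.toAlgebra
  obtain ⟨k, π, hπ, hker⟩ := hD.out
  obtain ⟨F, hF⟩ := hker
  obtain ⟨n, p, s₀, -, -, hps⟩ := Module.Finite.exists_comp_eq_id_of_projective R B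
  let e : Fin n → B := fun l => p (Pi.single l 1)
  let s : Fin n → B →ₗ[R] R := fun l => (LinearMap.proj l).comp s₀
  have hes : ∀ b, b = ∑ l, s l b • e l := fun b => by
    conv_lhs => rw [← show p (s₀ b) = b from LinearMap.congr_fun hps b, pi_eq_sum_univ' (s₀ b)]
    simp [e, s]
  let Q := MvPolynomial (Fin k × Fin n) R
  let y : Fin k → Q ⊗[R] B := fun i => ∑ l, MvPolynomial.X (i, l) ⊗ₜ e l
  let Φ : MvPolynomial (Fin k) B →+* Q ⊗[R] B :=
    MvPolynomial.eval₂Hom (Algebra.TensorProduct.includeRight (R := R) (A := Q) (B := B)).toRingHom y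
  let I : Ideal Q := Ideal.span ((Set.range fun q : F × Fin n => coord Q (s q.2) (Φ q.1.1)) ∪
    Set.range fun q : Fin k × Fin n => MvPolynomial.X q - coord Q (s q.2) (y q.1))
  have hI : I.FG := Submodule.fg_span ((Set.finite_range _).union (Set.finite_range _))
  let v : Q →ₐ[R] P := MvPolynomial.aeval fun q => coord P (s q.2) (ψ (π (MvPolynomial.X q.1)))
  have hvX : ∀ q, v (MvPolynomial.X q) = coord P (s q.2) (ψ (π (MvPolynomial.X q.1))) := fun q =>
    MvPolynomial.aeval_X _ q
  let V := Algebra.TensorProduct.map v (AlgHom.id R B)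
  have hVy : ∀ i, V (y i) = ψ (π (MvPolynomial.X i)) := fun i => by
    conv_rhs => rw [sum_coord_tmul hes (ψ (π (MvPolynomial.X i)))]
    simp [V, y, hvX]
  have hVΦ : ∀ f, V (Φ f) = ψ (π f) := by
    intro f
    refine RingHom.congr_fun (f := V.toRingHom.comp Φ) (g := ψ.comp π.toRingHom) ?_ f
    refine MvPolynomial.ringHom_ext (fun b => ?_) (fun i => ?_)
    · simp only [RingHom.comp_apply, AlgHom.toRingHom_eq_coe, RingHom.coe_coe, Φ, MvPolynomial.eval₂Hom_C]
      rw [show π (MvPolynomial.C b) = β b from π.commutes b,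
        show ψ (β b) = _ from RingHom.congr_fun hP.1 b]
      simp [V]
    · simp only [RingHom.comp_apply, AlgHom.toRingHom_eq_coe, RingHom.coe_coe, Φ, MvPolynomial.eval₂Hom_X']
      exact hVy i
  have hvI : ∀ x ∈ I, v x = 0 := by
    intro x hx
    refine (Ideal.span_le (I := RingHom.ker v.toRingHom)).2 ?_ hx
    rintro x (⟨⟨f, l⟩, rfl⟩ | ⟨q, rfl⟩)
    · change v (coord Q (s l) (Φ f.1)) = 0
      rw [← coord_map, show Algebra.TensorProduct.map v (AlgHom.id R B) (Φ f.1) = V (Φ f.1) from rfl, hVΦ,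
        show π f.1 = 0 from (hF.le (Ideal.subset_span f.2)), map_zero, map_zero]
    · change v (MvPolynomial.X q - coord Q (s q.2) (y q.1)) = 0
      rw [map_sub, ← coord_map, show Algebra.TensorProduct.map v (AlgHom.id R B) (y q.1) = V (y q.1) from rfl, hVy,
        hvX, sub_self]
  let P' := Q ⧸ I
  let mk : Q →ₐ[R] P' := Ideal.Quotient.mkₐ R I
  let M := Algebra.TensorProduct.map mk (AlgHom.id R B)
  let Φ' : MvPolynomial (Fin k) B →+* P' ⊗[R] B := M.toRingHom.comp Φ
  have hsub : ∀ f ∈ F, M (Φ f) = 0 := by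
    intro f hf
    rw [sum_coord_tmul hes (Φ f), map_sum]
    refine Finset.sum_eq_zero fun l _ => ?_
    have : mk (coord _ (s l) (Φ f)) = 0 :=
      Ideal.Quotient.eq_zero_iff_mem.2 (Ideal.subset_span (Or.inl ⟨(⟨f, hf⟩, l), rfl⟩))
    simp [M, this]
  have hzero : ∀ x, π x = 0 → M (Φ x) = 0 := by
    intro x hx
    have hx' : x ∈ Ideal.span (F : Set (MvPolynomial (Fin k) B)) := hF.ge hx
    induction hx' using Submodule.span_induction with
    | mem a ha => exact hsub a ha
    | zero => simp
    | add a b _ _ ha hb =>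
      rw [map_add, map_add]
      rw [ha (hF.le ‹a ∈ _›), hb (hF.le ‹b ∈ _›), add_zero]
    | smul a b _ hb =>
      rw [smul_eq_mul, map_mul, map_mul, hb (hF.le ‹b ∈ _›), mul_zero]
  obtain ⟨ψ', hψ'0⟩ := @exists_lift (MvPolynomial (Fin k) B) D (P' ⊗[R] B) _ _ _ π.toRingHom hπ (M.toRingHom.comp Φ)
    (fun x hx => hzero x hx)
  have hψ' : ∀ f, ψ' (π f) = Φ' f := hψ'0
  have hψ'β : ψ'.comp β = (Algebra.TensorProduct.includeRight (R := R) (A := P') (B := B)).toRingHom :=
    RingHom.ext fun b => by
      rw [RingHom.comp_apply, show β b = π (MvPolynomial.C b) from (π.commutes b).symm, hψ']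
      simp [Φ', Φ, M]
  obtain ⟨h, hh, -⟩ := hP.2 P' ψ' hψ'β
  let vbar : P' →ₐ[R] P := Ideal.Quotient.liftₐ I v hvI
  have hvmk : ∀ x, vbar (mk x) = v x := fun x => rfl
  have e1 : vbar.comp h = AlgHom.id R P := by
    obtain ⟨g, -, hg⟩ := hP.2 P ψ hP.1
    refine (hg _ (RingHom.ext fun d => ?_)).trans (hg _ (RingHom.ext fun d => ?_)).symm
    · obtain ⟨f, rfl⟩ := hπ d
      have e2 : Algebra.TensorProduct.map (vbar.comp h) (AlgHom.id R B) =
          (Algebra.TensorProduct.map vbar (AlgHom.id R B)).comp (Algebra.TensorProduct.map h (AlgHom.id R B)) :=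
        Algebra.TensorProduct.ext' fun a b => by simp
      change Algebra.TensorProduct.map (vbar.comp h) (AlgHom.id R B) (ψ (π f)) = ψ (π f)
      rw [e2, AlgHom.comp_apply, show Algebra.TensorProduct.map h (AlgHom.id R B) (ψ (π f)) = ψ' (π f) from
        RingHom.congr_fun hh (π f), hψ', ← hVΦ]
      change Algebra.TensorProduct.map vbar (AlgHom.id R B) (M (Φ f)) = V (Φ f)
      have e3 : (Algebra.TensorProduct.map vbar (AlgHom.id R B)).comp M = V :=
        Algebra.TensorProduct.ext' fun a b => by simp [M, V, hvmk]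
      exact AlgHom.congr_fun e3 (Φ f)
    · change Algebra.TensorProduct.map (AlgHom.id R P) (AlgHom.id R B) (ψ d) = ψ d
      rw [Algebra.TensorProduct.map_id]
      rfl
  have e4 : h.comp vbar = AlgHom.id R P' := by
    refine Ideal.Quotient.algHom_ext R (MvPolynomial.algHom_ext fun q => ?_)
    change h (v (MvPolynomial.X q)) = mk (MvPolynomial.X q)
    rw [hvX]
    rw [← coord_map, show Algebra.TensorProduct.map h (AlgHom.id R B) (ψ (π (MvPolynomial.X q.1))) = _ from
      RingHom.congr_fun hh (π (MvPolynomial.X q.1)), hψ']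
    simp only [Φ', Φ, RingHom.comp_apply, MvPolynomial.eval₂Hom_X']
    change coord P' (s q.2) (M (y q.1)) = _
    rw [coord_map]
    have hmem : MvPolynomial.X q - coord Q (s q.2) (y q.1) ∈ I := Ideal.subset_span (Or.inr ⟨q, rfl⟩)
    exact (Ideal.Quotient.eq.2 hmem).symm
  haveI : Algebra.FinitePresentation R P' := Algebra.FinitePresentation.quotient hI
  exact Algebra.FinitePresentation.equiv (AlgEquiv.ofAlgHom vbar h e1 e4)

end Groth.Agent.Lib.WeilRep.AlgFinite
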