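import Groth.Agent.Lib.WeilRep.Glue
import Mathlib.CategoryTheory.Comma.Over.Pullback

/-!
# The Weil restriction presheaf is a Zariski sheaf
-/

set_option autoImplicit false
set_option backward.isDefEq.respectTransparency false
set_option backward.isDefEq.respectTransparency.types false

noncomputable section

universe u

open CategoryTheory CategoryTheory.Limits AlgebraicGeometry Opposite TopologicalSpace

namespace Groth.Agent.Lib.WeilRep.Sheaf

open Glue

variable {S S' : Scheme.{u}} (f : S' ⟶ S) (X' : Over S')

theorem pullback_map_left {T T' : Over S} (g : T' ⟶ T) :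
    ((Over.pullback f).map g).left =
      pullback.lift (pullback.fst T'.hom f ≫ g.left) (pullback.snd T'.hom f)
        (by simp [pullback.condition]) := rfl

theorem map_resι_left (T : Over S) (V : T.left.Opens) :
    ((Over.pullback f).map (resι T V)).left =
      pullback.map (V.ι ≫ T.hom) f T.hom f V.ι (𝟙 _) (𝟙 _) (by simp) (by simp) := by
  rw [pullback_map_left]
  apply pullback.hom_ext
  · exact (pullback.lift_fst _ _ _).trans (pullback.lift_fst _ _ _).symm
  · exact (pullback.lift_snd _ _ _).trans ((pullback.lift_snd _ _ _).trans (Category.comp_id _)).symm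

theorem map_resLE_fst (T : Over S) {V W : T.left.Opens} (h : V ≤ W) :
    ((Over.pullback f).map (resLE T h)).left ≫ pullback.fst (res T W).hom f =
      pullback.fst (res T V).hom f ≫ T.left.homOfLE h :=
  pullback.lift_fst _ _ _

theorem map_resLE_snd (T : Over S) {V W : T.left.Opens} (h : V ≤ W) :
    ((Over.pullback f).map (resLE T h)).left ≫ pullback.snd (res T W).hom f =
      pullback.snd (res T V).hom f :=
  pullback.lift_snd _ _ _

theorem isZSheaf : IsZSheaf ((Over.pullback f).op ⋙ yoneda.obj X') where
  sep T a b h := by
    choose V hV hab using h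
    apply Over.OverMorphism.ext
    refine (Scheme.Pullback.openCoverOfLeft (T.left.openCoverOfIsOpenCover V (IsOpenCover.mk
      (top_le_iff.mp fun x _ => Opens.mem_iSup.mpr ⟨x, hV x⟩))) T.hom f).hom_ext _ _ fun x => ?_
    have := congrArg CommaMorphism.left (hab x)
    change ((Over.pullback f).map (resι T (V x))).left ≫ a.left =
      ((Over.pullback f).map (resι T (V x))).left ≫ b.left at this
    rw [map_resι_left] at this
    exact this
  glue T ι V hV a ha := by
    let 𝒰 := Scheme.Pullback.openCoverOfLeft (T.left.openCoverOfIsOpenCover V (IsOpenCover.mk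
      (top_le_iff.mp fun x _ => Opens.mem_iSup.mpr (hV x)))) T.hom f
    let m : ∀ i : ι, pullback ((V i).ι ≫ T.hom) f ⟶ pullback T.hom f := fun i =>
      pullback.map _ _ _ _ (V i).ι (𝟙 _) (𝟙 _) (by simp) (by simp)
    have hc : ∀ i j : ι, pullback.fst (m i) (m j) ≫ (a i).left = pullback.snd (m i) (m j) ≫ (a j).left := by
      intro i j
      let p := pullback.fst (m i) (m j)
      let q := pullback.snd (m i) (m j)
      have hpq : p ≫ m i = q ≫ m j := pullback.condition
      have hm1 : ∀ k, m k ≫ pullback.fst T.hom f = pullback.fst _ _ ≫ (V k).ι := fun k => pullback.lift_fst _ _ _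
      have hm2 : ∀ k, m k ≫ pullback.snd T.hom f = pullback.snd _ _ := fun k =>
        (pullback.lift_snd _ _ _).trans (Category.comp_id _)
      let w : pullback (m i) (m j) ⟶ T.left := p ≫ pullback.fst _ _ ≫ (V i).ι
      have hw : w = q ≫ pullback.fst _ _ ≫ (V j).ι := by
        simp only [w]
        rw [← hm1, ← hm1, reassoc_of% hpq]
      let r : pullback (m i) (m j) ⟶ (V i ⊓ V j).toScheme := IsOpenImmersion.lift (V i ⊓ V j).ι w (by
        rintro _ ⟨z, rfl⟩
        refine (range_ι (V i ⊓ V j)).symm.subset ⟨?_, ?_⟩
        · exact ((p ≫ pullback.fst _ _) z).2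
        · rw [hw]; exact ((q ≫ pullback.fst _ _) z).2)
      have hr : r ≫ (V i ⊓ V j).ι = w := IsOpenImmersion.lift_fac _ _ _
      let s : pullback (m i) (m j) ⟶ pullback ((V i ⊓ V j).ι ≫ T.hom) f :=
        pullback.lift r (p ≫ pullback.snd _ _) (by
          rw [reassoc_of% hr]
          simp only [w, Category.assoc, pullback.condition])
      have e1 : s ≫ ((Over.pullback f).map (resLE T (inf_le_left : V i ⊓ V j ≤ V i))).left = p := by
        apply pullback.hom_ext
        · rw [← cancel_mono (V i).ι, Category.assoc, Category.assoc, reassoc_of% (map_resLE_fst f T _)]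
          simp only [Category.assoc, Scheme.homOfLE_ι]
          exact (pullback.lift_fst_assoc _ _ _ _).trans hr
        · rw [Category.assoc, map_resLE_snd]
          exact pullback.lift_snd _ _ _
      have e2 : s ≫ ((Over.pullback f).map (resLE T (inf_le_right : V i ⊓ V j ≤ V j))).left = q := by
        apply pullback.hom_ext
        · rw [← cancel_mono (V j).ι, Category.assoc, Category.assoc, reassoc_of% (map_resLE_fst f T _)]
          simp only [Category.assoc, Scheme.homOfLE_ι]
          exact (pullback.lift_fst_assoc _ _ _ _).trans (hr.trans hw)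
        · rw [Category.assoc, map_resLE_snd]
          refine (pullback.lift_snd _ _ _).trans ?_
          exact (congrArg (p ≫ ·) (hm2 i).symm).trans ((congrArg (· ≫ pullback.snd T.hom f) hpq |>
            fun e => (Category.assoc _ _ _).symm.trans (e.trans (Category.assoc _ _ _))).trans
            (congrArg (q ≫ ·) (hm2 j)))
      have := congrArg CommaMorphism.left (ha i j)
      change ((Over.pullback f).map (resLE T (inf_le_left : V i ⊓ V j ≤ V i))).left ≫ (a i).left =
        ((Over.pullback f).map (resLE T (inf_le_right : V i ⊓ V j ≤ V j))).left ≫ (a j).left at this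
      calc p ≫ (a i).left = s ≫ ((Over.pullback f).map (resLE T (inf_le_left : V i ⊓ V j ≤ V i))).left ≫ (a i).left := by
            rw [reassoc_of% e1]
        _ = q ≫ (a j).left := by rw [this, reassoc_of% e2]
    let b : (Over.pullback f).obj T ⟶ X' := Over.homMk (𝒰.glueMorphisms (fun i => (a i).left) hc)
      (𝒰.hom_ext _ _ fun i => (Category.assoc _ _ _).symm.trans
        ((congrArg (· ≫ X'.hom) (𝒰.ι_glueMorphisms _ hc i)).trans ((Over.w (a i)).trans
          ((pullback.lift_snd _ _ _).trans (Category.comp_id _)).symm)))
    refine ⟨b, fun i => ?_⟩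
    apply Over.OverMorphism.ext
    change ((Over.pullback f).map (resι T (V i))).left ≫ b.left = _
    rw [map_resι_left]
    exact 𝒰.ι_glueMorphisms _ hc i

end Groth.Agent.Lib.WeilRep.Sheaf
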