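import Groth.Agent.Lib.WeilRep.Alg
import Groth.Agent.Lib.WeilRep.AlgFinite
import Groth.Agent.Lib.WeilRep.Sheaf
import Mathlib.Algebra.Category.Ring.Constructions
import Mathlib.AlgebraicGeometry.Morphisms.Finite
import Mathlib.AlgebraicGeometry.Morphisms.Flat
import Mathlib.AlgebraicGeometry.Morphisms.FinitePresentation
import Mathlib.RingTheory.Finiteness.ModuleFinitePresentation
import Mathlib.RingTheory.Flat.EquationalCriterion

/-!
# Weil restriction of an affine morphism over an affine open of the base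
-/

set_option autoImplicit false
set_option linter.style.haveILetI false
set_option backward.isDefEq.respectTransparency false
set_option backward.isDefEq.respectTransparency.types false

noncomputable section

universe u

open CategoryTheory CategoryTheory.Limits AlgebraicGeometry Opposite TopologicalSpace TensorProduct

namespace Groth.Agent.Lib.WeilRep.Affine

open Glue

variable {S S' : Scheme.{u}} (f : S' ⟶ S) (X' : Over S')

/-- Universality passes along isomorphisms of test objects. -/
theorem bijAt_of_iso {F : (Over S)ᵒᵖ ⥤ Type u} {W : Over S} {u : F.obj (op W)} {T T' : Over S} (e : T ≅ T')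
    (h : BijAt u T') : BijAt u T := by
  refine ⟨fun g g' hg => ?_, fun a => ?_⟩
  · have : e.inv ≫ g = e.inv ≫ g' := h.1 (by
      change act F _ u = act F _ u
      rw [act_comp, act_comp, show act F g u = act F g' u from hg])
    exact (cancel_epi e.inv).1 this
  · obtain ⟨g, hg⟩ := h.2 (act F e.inv a)
    refine ⟨e.hom ≫ g, ?_⟩
    change act F _ u = a
    rw [act_comp, show act F g u = _ from hg, ← act_comp, e.hom_inv_id, act_id]

/-- The square of a test object `Spec A` over the open immersion `jR`. -/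
theorem isPullback_test {R B : Type u} [CommRing R] [CommRing B] [Algebra R B]
    {jR : Spec (CommRingCat.of R) ⟶ S} {jB : Spec (CommRingCat.of B) ⟶ S'}
    (hB : IsPullback (Spec.map (CommRingCat.ofHom (algebraMap R B))) jB jR f)
    (A : Type u) [CommRing A] [Algebra R A] :
    IsPullback (Spec.map (CommRingCat.ofHom (Algebra.TensorProduct.includeLeftRingHom (R := R) (A := A) (B := B))))
      (Spec.map (CommRingCat.ofHom (Algebra.TensorProduct.includeRight (R := R) (A := A) (B := B)).toRingHom) ≫ jB)
      (Over.mk (Spec.map (CommRingCat.ofHom (algebraMap R A)) ≫ jR) : Over S).hom f :=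
  ((isPullback_SpecMap_of_isPushout _ _ _ _ (CommRingCat.isPushout_tensorProduct R A B)).flip.paste_horiz
    hB.flip).flip

/-- A universal algebra gives the chart of the Weil restriction over an open immersion `jR : Spec R ⟶ S` over
which `f` is the spectrum of `B` and `X'` that of `D`; the universal section is `ψ`. -/
theorem exists_chart_of_univ {R B D : Type u} [CommRing R] [CommRing B] [CommRing D] [Algebra R B]
    (β : B →+* D)
    (jR : Spec (CommRingCat.of R) ⟶ S) [IsOpenImmersion jR]
    (jB : Spec (CommRingCat.of B) ⟶ S') (jD : Spec (CommRingCat.of D) ⟶ X'.left) [IsOpenImmersion jD]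
    (hB : IsPullback (Spec.map (CommRingCat.ofHom (algebraMap R B))) jB jR f)
    (hD : IsPullback (Spec.map (CommRingCat.ofHom β)) jD jB X'.hom)
    (P : Type u) [CommRing P] [Algebra R P] (ψ : D →+* P ⊗[R] B) (hP : AlgFinite.IsUniv β P ψ) :
    ∃ u : (Over.pullback f).obj (Over.mk (Spec.map (CommRingCat.ofHom (algebraMap R P)) ≫ jR) : Over S) ⟶ X',
      u.left = (isPullback_test f hB P).isoPullback.inv ≫ Spec.map (CommRingCat.ofHom ψ) ≫ jD ∧
      ∀ T : Over S, IsAffine T.left → LiesIn T jR.opensRange →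
        BijAt (F := (Over.pullback f).op ⋙ yoneda.obj X') u T := by
  obtain ⟨hψ, huniv⟩ := hP
  let TA : ∀ (A : Type u) [CommRing A] [Algebra R A], Over S := fun A _ _ =>
    Over.mk (Spec.map (CommRingCat.ofHom (algebraMap R A)) ≫ jR)
  let eA : ∀ (A : Type u) [CommRing A] [Algebra R A], Spec (CommRingCat.of (A ⊗[R] B)) ⟶ S' := fun A _ _ =>
    Spec.map (CommRingCat.ofHom (Algebra.TensorProduct.includeRight (R := R) (A := A) (B := B)).toRingHom) ≫ jB
  have hpb : ∀ (A : Type u) [CommRing A] [Algebra R A],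
      IsPullback (Spec.map (CommRingCat.ofHom (Algebra.TensorProduct.includeLeftRingHom (R := R) (A := A) (B := B))))
        (eA A) (TA A).hom f := fun A _ _ =>
    ((isPullback_SpecMap_of_isPushout _ _ _ _ (CommRingCat.isPushout_tensorProduct R A B)).flip.paste_horiz
      hB.flip).flip
  -- morphisms to `X'` over the test objects
  have hphi : ∀ (A : Type u) [CommRing A] [Algebra R A] (b : (Over.pullback f).obj (TA A) ⟶ X'),
      ∃ φ : D →+* A ⊗[R] B,
        φ.comp β = (Algebra.TensorProduct.includeRight (R := R) (A := A) (B := B)).toRingHom ∧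
        Spec.map (CommRingCat.ofHom φ) ≫ jD = (hpb A).isoPullback.hom ≫ b.left := fun A _ _ b => by
    let m := (hpb A).isoPullback.hom ≫ b.left
    have hm : Spec.map (CommRingCat.ofHom (Algebra.TensorProduct.includeRight (R := R) (A := A) (B := B)).toRingHom)
        ≫ jB = m ≫ X'.hom := by
      simp only [m, Category.assoc]
      rw [Over.w b]
      exact (hpb A).isoPullback_hom_snd.symm
    obtain ⟨φ, hφ⟩ := Spec.map_surjective (hD.lift _ m hm)
    refine ⟨φ.hom, ?_, ?_⟩
    · have := hD.lift_fst _ m hm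
      rw [← hφ, ← Spec.map_comp] at this
      exact congrArg CommRingCat.Hom.hom (Spec.map_injective this)
    · exact (congrArg (· ≫ jD) hφ).trans (hD.lift_snd _ m hm)
  have hnat : ∀ (A : Type u) [CommRing A] [Algebra R A] (h : P →ₐ[R] A) (g : TA A ⟶ TA P),
      g.left = Spec.map (CommRingCat.ofHom h.toRingHom) →
      (hpb A).isoPullback.hom ≫ ((Over.pullback f).map g).left =
        Spec.map (CommRingCat.ofHom (Algebra.TensorProduct.map h (AlgHom.id R B)).toRingHom) ≫
          (hpb P).isoPullback.hom := fun A _ _ h g hg => by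
    rw [Sheaf.pullback_map_left]
    apply pullback.hom_ext
    · refine (Category.assoc _ _ _).trans ?_
      rw [pullback.lift_fst, Category.assoc, (hpb P).isoPullback_hom_fst,
        (hpb A).isoPullback_hom_fst_assoc, hg, ← Spec.map_comp, ← Spec.map_comp]
      congr 1
    · refine (Category.assoc _ _ _).trans ?_
      rw [pullback.lift_snd, Category.assoc, (hpb P).isoPullback_hom_snd,
        (hpb A).isoPullback_hom_snd]
      simp only [eA]
      rw [← Spec.map_comp_assoc]
      congr 2
      ext b
      simp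
  let u : (Over.pullback f).obj (TA P) ⟶ X' := Over.homMk
    ((hpb P).isoPullback.inv ≫ Spec.map (CommRingCat.ofHom ψ) ≫ jD) (by
      rw [Category.assoc, Category.assoc, ← hD.w, ← Spec.map_comp_assoc, ← CommRingCat.ofHom_comp, hψ]
      exact (hpb P).isoPullback_inv_snd)
  have hcomp : ∀ (A : Type u) [CommRing A] [Algebra R A] (h : P →ₐ[R] A) (g : TA A ⟶ TA P),
      g.left = Spec.map (CommRingCat.ofHom h.toRingHom) →
      (hpb A).isoPullback.hom ≫ ((Over.pullback f).map g ≫ u).left =
        Spec.map (CommRingCat.ofHom ((Algebra.TensorProduct.map h (AlgHom.id R B)).toRingHom.comp ψ)) ≫ jD :=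
      fun A _ _ h g hg => by
    rw [Over.comp_left, ← Category.assoc, hnat A h g hg]
    simp only [u, Over.homMk_left, Category.assoc, Iso.hom_inv_id_assoc]
    rw [CommRingCat.ofHom_comp, Spec.map_comp, Category.assoc]
  have halg : ∀ (A : Type u) [CommRing A] [Algebra R A] (g : TA A ⟶ TA P),
      ∃ h : P →ₐ[R] A, g.left = Spec.map (CommRingCat.ofHom h.toRingHom) := fun A _ _ g => by
    obtain ⟨h₀, hh⟩ := Spec.map_surjective g.left
    have w : (h₀.hom : P →+* A).comp (algebraMap R P) = algebraMap R A := by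
      have e := Over.w g
      change g.left ≫ Spec.map (CommRingCat.ofHom (algebraMap R P)) ≫ jR =
        Spec.map (CommRingCat.ofHom (algebraMap R A)) ≫ jR at e
      rw [← Category.assoc, cancel_mono, ← hh, ← Spec.map_comp] at e
      exact congrArg CommRingCat.Hom.hom (Spec.map_injective e)
    exact ⟨{ h₀.hom with commutes' := RingHom.congr_fun w }, hh.symm⟩
  have key : ∀ (A : Type u) [CommRing A] [Algebra R A],
      BijAt (F := (Over.pullback f).op ⋙ yoneda.obj X') (W := TA P) u (TA A) := fun A _ _ => by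
    constructor
    · intro g g' e
      obtain ⟨h, hg⟩ := halg A g
      obtain ⟨h', hg'⟩ := halg A g'
      have e' := congrArg (fun b => (hpb A).isoPullback.hom ≫ b)
        (congrArg CommaMorphism.left (show (Over.pullback f).map g ≫ u = (Over.pullback f).map g' ≫ u from e))
      have e'' := ((hcomp A h g hg).symm.trans e').trans (hcomp A h' g' hg')
      rw [cancel_mono] at e''
      have e3 := congrArg CommRingCat.Hom.hom (Spec.map_injective e'')
      obtain ⟨φ, hφ, hφ'⟩ := hphi A ((Over.pullback f).map g' ≫ u)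
      rw [hcomp A h' g' hg', cancel_mono] at hφ'
      have e4 := congrArg CommRingCat.Hom.hom (Spec.map_injective hφ')
      obtain ⟨k, -, huk⟩ := huniv A φ hφ
      have hh : h = h' := (huk h (e3.trans e4.symm)).trans (huk h' e4.symm).symm
      subst hh
      ext1
      rw [hg, hg']
    · intro b
      obtain ⟨φ, hφ, hφ'⟩ := hphi A b
      obtain ⟨h, hh, -⟩ := huniv A φ hφ
      let g : TA A ⟶ TA P := Over.homMk (Spec.map (CommRingCat.ofHom h.toRingHom)) (by
        simp only [TA, Over.mk_hom]
        rw [← Spec.map_comp_assoc]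
        congr 2
        ext r
        exact h.commutes r)
      refine ⟨g, ?_⟩
      apply Over.OverMorphism.ext
      rw [← cancel_epi (hpb A).isoPullback.hom]
      exact (hcomp A h g rfl).trans (by rw [hh]; exact hφ')
  refine ⟨u, rfl, fun T hT hTin => ?_⟩
  let t : T.left ⟶ Spec (CommRingCat.of R) := IsOpenImmersion.lift jR T.hom (by rintro _ ⟨x, rfl⟩; exact hTin x)
  obtain ⟨a, ha⟩ := Spec.map_surjective (T.left.isoSpec.inv ≫ t)
  letI : Algebra R Γ(T.left, ⊤) := a.hom.toAlgebra
  refine bijAt_of_iso (Over.isoMk T.left.isoSpec (?_ : T.left.isoSpec.hom ≫ (TA Γ(T.left, ⊤)).hom = T.hom))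
    (key Γ(T.left, ⊤))
  change T.left.isoSpec.hom ≫ Spec.map a ≫ jR = T.hom
  rw [ha, Category.assoc, Iso.hom_inv_id_assoc]
  exact IsOpenImmersion.lift_fac _ _ _

/-- The chart of the Weil restriction over an open immersion `jR : Spec R ⟶ S` over which `f` is the spectrum
of a finite projective algebra and `X'` is affine. -/
theorem exists_chart_of_squares {R B D : Type u} [CommRing R] [CommRing B] [CommRing D] [Algebra R B]
    [Module.Finite R B] [Module.Projective R B] (β : B →+* D)
    (jR : Spec (CommRingCat.of R) ⟶ S) [IsOpenImmersion jR]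
    (jB : Spec (CommRingCat.of B) ⟶ S') (jD : Spec (CommRingCat.of D) ⟶ X'.left) [IsOpenImmersion jD]
    (hB : IsPullback (Spec.map (CommRingCat.ofHom (algebraMap R B))) jB jR f)
    (hD : IsPullback (Spec.map (CommRingCat.ofHom β)) jD jB X'.hom) :
    ∃ (W : Over S) (u : ((Over.pullback f).op ⋙ yoneda.obj X').obj (op W)),
      IsAffine W.left ∧ LiesIn W jR.opensRange ∧
      ∀ T : Over S, IsAffine T.left → LiesIn T jR.opensRange → BijAt u T := by
  obtain ⟨P, _, _, ψ, hP⟩ := AlgFinite.exists_isUniv β (R := R) (B := B)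
  obtain ⟨u, -, hu⟩ := exists_chart_of_univ f X' β jR jB jD hB hD P ψ hP
  exact ⟨_, u, inferInstanceAs (IsAffine (Spec _)), fun x => ⟨_, rfl⟩, hu⟩

/-- The chart over an affine open of the base. -/
theorem exists_chart [IsFinite f] [Flat f] [LocallyOfFinitePresentation f] [IsAffineHom X'.hom]
    (U : S.affineOpens) :
    ∃ (W : Over S) (u : ((Over.pullback f).op ⋙ yoneda.obj X').obj (op W)),
      IsAffine W.left ∧ LiesIn W U.1 ∧ ∀ T : Over S, IsAffine T.left → LiesIn T U.1 → BijAt u T := by
  have hV : IsAffineOpen (f ⁻¹ᵁ U.1) := U.2.preimage f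
  have hY : IsAffineOpen (X'.hom ⁻¹ᵁ (f ⁻¹ᵁ U.1)) := hV.preimage X'.hom
  letI : Algebra Γ(S, U.1) Γ(S', f ⁻¹ᵁ U.1) := (f.app U.1).hom.toAlgebra
  haveI : Module.Finite Γ(S, U.1) Γ(S', f ⁻¹ᵁ U.1) := f.finite_app U.1 U.2
  haveI : Module.Flat Γ(S, U.1) Γ(S', f ⁻¹ᵁ U.1) := by
    have := f.flat_appLE U.2 hV le_rfl
    rwa [← Scheme.Hom.app_eq_appLE] at this
  haveI : Algebra.FinitePresentation Γ(S, U.1) Γ(S', f ⁻¹ᵁ U.1) := by
    have := f.finitePresentation_appLE U.2 hV le_rfl
    rwa [← Scheme.Hom.app_eq_appLE] at this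
  haveI := Module.FinitePresentation.of_finite_of_finitePresentation (R := Γ(S, U.1)) (S := Γ(S', f ⁻¹ᵁ U.1))
  haveI : Module.Projective Γ(S, U.1) Γ(S', f ⁻¹ᵁ U.1) := Module.Flat.projective_of_finitePresentation
  have hB : IsPullback (Spec.map (CommRingCat.ofHom (algebraMap Γ(S, U.1) Γ(S', f ⁻¹ᵁ U.1)))) hV.fromSpec
      U.2.fromSpec f := by
    refine IsOpenImmersion.isPullback _ _ _ _ ?_ ?_
    · rw [← U.2.SpecMap_appLE_fromSpec f hV le_rfl, ← Scheme.Hom.app_eq_appLE]
      rfl
    · rw [U.2.opensRange_fromSpec, hV.opensRange_fromSpec]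
  have hD : IsPullback (Spec.map (CommRingCat.ofHom (X'.hom.app (f ⁻¹ᵁ U.1)).hom)) hY.fromSpec
      hV.fromSpec X'.hom := by
    refine IsOpenImmersion.isPullback _ _ _ _ ?_ ?_
    · rw [← hV.SpecMap_appLE_fromSpec X'.hom hY le_rfl, ← Scheme.Hom.app_eq_appLE]
      rfl
    · rw [hV.opensRange_fromSpec, hY.opensRange_fromSpec]
  obtain ⟨W, u, hW, hWin, hb⟩ := exists_chart_of_squares f X' _ U.2.fromSpec hV.fromSpec hY.fromSpec hB hD
  have e := U.2.opensRange_fromSpec
  exact ⟨W, u, hW, fun x => e ▸ hWin x, fun T hT hTin => hb T hT fun x => e.symm ▸ hTin x⟩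

end Groth.Agent.Lib.WeilRep.Affine
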