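import Mathlib.RingTheory.Finiteness.Projective
import Mathlib.RingTheory.Ideal.Quotient.Operations
import Mathlib.RingTheory.TensorProduct.Maps
import Mathlib.Algebra.MvPolynomial.CommRing

/-!
# Weil restriction of algebras along a finite projective algebra

For a finite projective `R`-algebra `B` and a `B`-algebra `D` there is an `R`-algebra `P` with a map of
`B`-algebras `D → P ⊗[R] B` which is universal among maps `D → A ⊗[R] B`.
-/

set_option autoImplicit false

universe u v

open TensorProduct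

namespace Groth.Agent.Lib.WeilRep.Alg

variable {R : Type u} [CommRing R] {B : Type u} [CommRing B] [Algebra R B]

variable (A : Type v) [CommRing A] [Algebra R A]

/-- The coordinate of `A ⊗ B` attached to a linear form on `B`. -/
noncomputable def coord (s : B →ₗ[R] R) : A ⊗[R] B →ₗ[R] A :=
  (TensorProduct.rid R A).toLinearMap ∘ₗ LinearMap.lTensor A s

variable {A}

theorem coord_tmul (s : B →ₗ[R] R) (a : A) (b : B) : coord A s (a ⊗ₜ b) = s b • a := by
  simp [coord]

theorem coord_map {A' : Type v} [CommRing A'] [Algebra R A'] (h : A →ₐ[R] A') (s : B →ₗ[R] R)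
    (y : A ⊗[R] B) :
    coord A' s (Algebra.TensorProduct.map h (AlgHom.id R B) y) = h (coord A s y) := by
  induction y using TensorProduct.induction_on with
  | zero => simp
  | tmul a b => simp [coord_tmul, map_smul]
  | add x y hx hy => simp [map_add, hx, hy]

theorem sum_coord_tmul {n : ℕ} {e : Fin n → B} {s : Fin n → B →ₗ[R] R}
    (hes : ∀ b, b = ∑ l, s l b • e l) (y : A ⊗[R] B) : y = ∑ l, coord A (s l) y ⊗ₜ[R] e l := by
  induction y using TensorProduct.induction_on with
  | zero => simp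
  | tmul a b =>
    conv_lhs => rw [hes b, TensorProduct.tmul_sum]
    simp [coord_tmul, TensorProduct.smul_tmul]
  | add x y hx hy =>
    simp only [map_add, TensorProduct.add_tmul, Finset.sum_add_distrib]
    rw [← hx, ← hy]

open Algebra.TensorProduct in
/-- Existence of the Weil restriction of the `B`-algebra `D` given by `β : B →+* D`. -/
theorem exists_weilRes [Module.Finite R B] [Module.Projective R B] (D : Type u) [CommRing D]
    (β : B →+* D) :
    ∃ (P : Type u) (_ : CommRing P) (_ : Algebra R P) (ψ : D →+* P ⊗[R] B),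
      ψ.comp β = (includeRight (R := R) (A := P) (B := B)).toRingHom ∧
      ∀ (A : Type u) [CommRing A] [Algebra R A] (φ : D →+* A ⊗[R] B),
        φ.comp β = (includeRight (R := R) (A := A) (B := B)).toRingHom →
        ∃! h : P →ₐ[R] A, (map h (AlgHom.id R B)).toRingHom.comp ψ = φ := by
  obtain ⟨n, p, s₀, -, -, hps⟩ := Module.Finite.exists_comp_eq_id_of_projective R B
  let e : Fin n → B := fun l => p (Pi.single l 1)
  let s : Fin n → B →ₗ[R] R := fun l => (LinearMap.proj l).comp s₀
  have hes : ∀ b, b = ∑ l, s l b • e l := fun b => by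
    conv_lhs => rw [← show p (s₀ b) = b from LinearMap.congr_fun hps b, pi_eq_sum_univ' (s₀ b)]
    simp [e, s]
  let ψ₀ : D → MvPolynomial (D × Fin n) R ⊗[R] B := fun d => ∑ l, MvPolynomial.X (d, l) ⊗ₜ e l
  let rel : Set (MvPolynomial (D × Fin n) R ⊗[R] B) :=
    Set.range (fun q : D × D => ψ₀ (q.1 + q.2) - (ψ₀ q.1 + ψ₀ q.2)) ∪
      Set.range (fun q : D × D => ψ₀ (q.1 * q.2) - ψ₀ q.1 * ψ₀ q.2) ∪
      Set.range (fun b : B => ψ₀ (β b) - 1 ⊗ₜ b)
  let I : Ideal (MvPolynomial (D × Fin n) R) := Ideal.span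
    ({x | ∃ r ∈ rel, ∃ l, coord _ (s l) r = x} ∪
      Set.range fun q : D × Fin n => MvPolynomial.X q - coord _ (s q.2) (ψ₀ q.1))
  let P := MvPolynomial (D × Fin n) R ⧸ I
  let mk : MvPolynomial (D × Fin n) R →ₐ[R] P := Ideal.Quotient.mkₐ R I
  let M := map mk (AlgHom.id R B)
  have hrel : ∀ r ∈ rel, M r = 0 := fun r hr => by
    rw [sum_coord_tmul hes r, map_sum]
    refine Finset.sum_eq_zero fun l _ => ?_
    have : mk (coord _ (s l) r) = 0 :=
      Ideal.Quotient.eq_zero_iff_mem.2 (Ideal.subset_span (Or.inl ⟨r, hr, l, rfl⟩))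
    simp [M, this]
  let ψ₁ : D → P ⊗[R] B := fun d => M (ψ₀ d)
  have hadd : ∀ x y, ψ₁ (x + y) = ψ₁ x + ψ₁ y := fun x y => by
    have := hrel _ (Or.inl (Or.inl ⟨(x, y), rfl⟩))
    rwa [map_sub, map_add, sub_eq_zero] at this
  have hmul : ∀ x y, ψ₁ (x * y) = ψ₁ x * ψ₁ y := fun x y => by
    have := hrel _ (Or.inl (Or.inr ⟨(x, y), rfl⟩))
    rwa [map_sub, map_mul, sub_eq_zero] at this
  have hβ : ∀ b, ψ₁ (β b) = (1 : P) ⊗ₜ b := fun b => by
    have := hrel _ (Or.inr ⟨b, rfl⟩)
    rw [map_sub, sub_eq_zero] at this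
    simpa [M] using this
  let ψ : D →+* P ⊗[R] B :=
    { toFun := ψ₁
      map_one' := by
        have := hβ 1
        rwa [map_one, ← one_def] at this
      map_mul' := hmul
      map_zero' := by
        have := hβ 0
        rwa [map_zero, TensorProduct.tmul_zero] at this
      map_add' := hadd }
  refine ⟨P, inferInstance, inferInstance, ψ, RingHom.ext fun b => hβ b, fun A _ _ φ hφ => ?_⟩
  let v : MvPolynomial (D × Fin n) R →ₐ[R] A := MvPolynomial.aeval fun q => coord A (s q.2) (φ q.1)
  let V := map v (AlgHom.id R B)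
  have hV : ∀ d, V (ψ₀ d) = φ d := fun d => by
    conv_rhs => rw [sum_coord_tmul hes (φ d)]
    simp [V, ψ₀, v]
  have hvI : ∀ x ∈ I, v x = 0 := by
    intro x hx
    refine (Ideal.span_le (I := RingHom.ker v.toRingHom)).2 ?_ hx
    rintro x (⟨r, hr, l, rfl⟩ | ⟨q, rfl⟩)
    · have : V r = 0 := by
        rcases hr with (⟨q, rfl⟩ | ⟨q, rfl⟩) | ⟨b, rfl⟩
        · simp [map_sub, map_add, hV]
        · simp [map_sub, map_mul, hV]
        · rw [map_sub, hV, show φ (β b) = (1 : A) ⊗ₜ b from RingHom.congr_fun hφ b]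
          simp [V]
      change v (coord _ (s l) r) = 0
      rw [← coord_map, show map v (AlgHom.id R B) r = V r from rfl, this, map_zero]
    · change v (MvPolynomial.X q - coord _ (s q.2) (ψ₀ q.1)) = 0
      rw [map_sub, ← coord_map, show map v (AlgHom.id R B) (ψ₀ q.1) = V (ψ₀ q.1) from rfl, hV]
      simp [v]
  let h : P →ₐ[R] A := Ideal.Quotient.liftₐ I v hvI
  refine ⟨h, RingHom.ext fun d => ?_, fun h' hh' => ?_⟩
  · conv_rhs => rw [sum_coord_tmul hes (φ d)]
    change map h (AlgHom.id R B) (M (ψ₀ d)) = _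
    simp only [M, ψ₀, map_sum, Algebra.TensorProduct.map_tmul, AlgHom.coe_id, id_eq]
    refine Finset.sum_congr rfl fun l _ => congrArg (· ⊗ₜ[R] e l) ?_
    change v (MvPolynomial.X (d, l)) = _
    simp [v]
  · have key : ∀ q : D × Fin n, h' (mk (MvPolynomial.X q)) = coord A (s q.2) (φ q.1) := fun q => by
      have e1 : mk (MvPolynomial.X q) = coord P (s q.2) (ψ₁ q.1) := by
        rw [coord_map]
        exact Ideal.Quotient.eq.2 (Ideal.subset_span (Or.inr ⟨q, rfl⟩))
      rw [e1, ← coord_map]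
      exact congrArg (coord A (s q.2)) (RingHom.congr_fun hh' q.1)
    refine Ideal.Quotient.algHom_ext R (MvPolynomial.algHom_ext fun q => ?_)
    refine (key q).trans ?_
    change _ = v (MvPolynomial.X q)
    simp [v]

end Groth.Agent.Lib.WeilRep.Alg
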