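import Groth.Agent.Lib.WeilRep.AlgFinite
import Mathlib.RingTheory.Smooth.Basic
import Mathlib.RingTheory.TensorProduct.Quotient
import Mathlib.LinearAlgebra.TensorProduct.RightExactness
import Mathlib.RingTheory.Jacobson.Ring
import Mathlib.RingTheory.Artinian.Module
import Mathlib.RingTheory.Artinian.Ring
import Mathlib.FieldTheory.IsAlgClosed.Basic
import Mathlib.FieldTheory.IsAlgClosed.AlgebraicClosure
import Mathlib.AlgebraicGeometry.Pullbacks
import Mathlib.AlgebraicGeometry.PullbackCarrier

/-!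
# Smoothness of the counit and of the functoriality maps of the Weil restriction of algebras
-/

set_option autoImplicit false
set_option backward.isDefEq.respectTransparency false
set_option linter.style.haveILetI false

universe u

open TensorProduct

namespace Groth.Agent.Lib.WeilRep.SmoothAlg

open Algebra.TensorProduct AlgFinite

/-- The map on tensor products of a surjection with square zero kernel has square zero kernel. -/
theorem mul_eq_zero_of_map {R A B : Type u} [CommRing R] [CommRing A] [Algebra R A] [CommRing B] [Algebra R B]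
    (I : Ideal A) (hI : I ^ 2 = ⊥) (y z : A ⊗[R] B)
    (hy : map (Ideal.Quotient.mkₐ R I) (AlgHom.id R B) y = 0)
    (hz : map (Ideal.Quotient.mkₐ R I) (AlgHom.id R B) z = 0) : y * z = 0 := by
  have hker := Algebra.TensorProduct.rTensor_ker (R := R) (S := R) (A := A) (B := A ⧸ I) (C := B) (Ideal.Quotient.mkₐ R I)
    (Ideal.Quotient.mkₐ_surjective R I)
  rw [show RingHom.ker (Ideal.Quotient.mkₐ R I) = I from Ideal.Quotient.mkₐ_ker R I] at hker
  have h1 : y ∈ I.map (includeLeft : A →ₐ[R] A ⊗[R] B) := hker ▸ (RingHom.mem_ker.2 hy)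
  have h2 : z ∈ I.map (includeLeft : A →ₐ[R] A ⊗[R] B) := hker ▸ (RingHom.mem_ker.2 hz)
  have h3 := Ideal.mul_mem_mul h1 h2
  rw [← Ideal.map_mul, ← pow_two, hI, Ideal.map_bot] at h3
  exact h3

theorem map_mk_surjective {R A B : Type u} [CommRing R] [CommRing A] [Algebra R A] [CommRing B] [Algebra R B]
    (I : Ideal A) : Function.Surjective (map (Ideal.Quotient.mkₐ R I) (AlgHom.id R B)) :=
  LinearMap.rTensor_surjective B (g := (Ideal.Quotient.mkₐ R I).toLinearMap) (Ideal.Quotient.mkₐ_surjective R I)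

theorem map_comp_apply {R A A' A'' B : Type u} [CommRing R] [CommRing A] [Algebra R A] [CommRing A']
    [Algebra R A'] [CommRing A''] [Algebra R A''] [CommRing B] [Algebra R B]
    (g : A' →ₐ[R] A'') (h : A →ₐ[R] A') (y : A ⊗[R] B) :
    map (g.comp h) (AlgHom.id R B) y = map g (AlgHom.id R B) (map h (AlgHom.id R B) y) := by
  induction y using TensorProduct.induction_on with
  | zero => simp
  | tmul a b => simp
  | add a b ha hb => simp [map_add, ha, hb]

/-- The counit of the Weil restriction of a formally smooth algebra is formally smooth. -/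
theorem counit_formallySmooth {R B D P : Type u} [CommRing R] [CommRing B] [Algebra R B] [CommRing D]
    [Algebra B D] [Algebra.FormallySmooth B D] [CommRing P] [Algebra R P] (ψ : D →+* P ⊗[R] B)
    (hP : IsUniv (algebraMap B D) P ψ) :
    letI := ψ.toAlgebra
    Algebra.FormallySmooth D (P ⊗[R] B) := by
  obtain ⟨hψ, huniv⟩ := hP
  let := ψ.toAlgebra
  refine Algebra.FormallySmooth.of_comp_surjective fun A _ _ I hI g₀ => ?_
  let x : D →+* A := algebraMap D A
  let := ((x.comp (algebraMap B D)).comp (algebraMap R B)).toAlgebra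
  let a : B →ₐ[R] A := { x.comp (algebraMap B D) with commutes' := fun r => rfl }
  let mk := Ideal.Quotient.mkₐ R I
  have hgB : ∀ b, g₀ ((1 : P) ⊗ₜ[R] b) = mk (a b) := fun b => by
    rw [show (1 : P) ⊗ₜ[R] b = ψ (algebraMap B D b) from (RingHom.congr_fun hψ b).symm]
    exact g₀.commutes (algebraMap B D b)
  let g₀R : P →ₐ[R] A ⧸ I :=
    { toFun := fun p => g₀ (p ⊗ₜ[R] (1 : B))
      map_one' := by rw [← one_def, map_one]
      map_mul' := fun p q => by rw [← map_mul, tmul_mul_tmul, mul_one]
      map_zero' := by rw [TensorProduct.zero_tmul, map_zero]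
      map_add' := fun p q => by rw [TensorProduct.add_tmul, map_add]
      commutes' := fun r => by
        rw [show algebraMap R P r ⊗ₜ[R] (1 : B) = (1 : P) ⊗ₜ[R] algebraMap R B r by
          rw [Algebra.algebraMap_eq_smul_one, TensorProduct.smul_tmul, Algebra.algebraMap_eq_smul_one], hgB]
        rfl }
  let π : A ⊗[R] B →ₐ[R] (A ⧸ I) ⊗[R] B := map mk (AlgHom.id R B)
  let m : A ⊗[R] B →ₐ[R] A := productMap (AlgHom.id R A) a
  let m₀ : (A ⧸ I) ⊗[R] B →ₐ[R] A ⧸ I := productMap (AlgHom.id R _) (mk.comp a)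
  have hmπ : ∀ y, m₀ (π y) = mk (m y) := fun y => by
    induction y using TensorProduct.induction_on with
    | zero => simp
    | tmul a b => simp [m, m₀, π]
    | add a b ha hb => simp [map_add, ha, hb]
  have hm₀ : ∀ y, m₀ (map g₀R (AlgHom.id R B) y) = g₀ y := fun y => by
    induction y using TensorProduct.induction_on with
    | zero => simp
    | tmul p b =>
      rw [show p ⊗ₜ[R] b = (p ⊗ₜ[R] (1 : B)) * ((1 : P) ⊗ₜ[R] b) by simp, map_mul, map_mul, map_mul, hgB]
      simp [m₀, g₀R, show g₀ ((1 : P) ⊗ₜ[R] (1 : B)) = 1 from map_one g₀]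
    | add a b ha hb => simp [map_add, ha, hb]
  let φ₀ : D →+* (A ⧸ I) ⊗[R] B := (map g₀R (AlgHom.id R B)).toRingHom.comp ψ
  have hφ₀ : ∀ d, m₀ (φ₀ d) = mk (x d) := fun d => (hm₀ (ψ d)).trans (g₀.commutes d)
  have hex : ∀ d, ∃ e, π e = φ₀ d ∧ m e = x d := fun d => by
    obtain ⟨e₁, he₁⟩ := map_mk_surjective (R := R) (B := B) I (φ₀ d)
    have hi : m e₁ - x d ∈ I := Ideal.Quotient.eq.1 (show mk (m e₁) = mk (x d) by
      rw [← hmπ, show π e₁ = φ₀ d from he₁, hφ₀])
    refine ⟨e₁ - (m e₁ - x d) ⊗ₜ[R] (1 : B), ?_, ?_⟩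
    · rw [map_sub, show π e₁ = φ₀ d from he₁]
      have : mk (m e₁ - x d) = 0 := Ideal.Quotient.eq_zero_iff_mem.2 hi
      simp [π, this]
    · rw [map_sub]
      simp [m]
  choose e he hme using hex
  let J : Ideal (A ⊗[R] B) := RingHom.ker π.toRingHom ⊓ RingHom.ker m.toRingHom
  have hJ : J ^ 2 = ⊥ := by
    rw [pow_two, eq_bot_iff, Ideal.mul_le]
    exact fun y hy z hz => mul_eq_zero_of_map I hI y z hy.1 hz.1
  have hJmem : ∀ y d, π y = φ₀ d → m y = x d →
      Ideal.Quotient.mk J (e d) = Ideal.Quotient.mk J y := fun y d h1 h2 => by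
    refine Ideal.Quotient.eq.2 ⟨?_, ?_⟩ <;>
      simp only [SetLike.mem_coe, RingHom.mem_ker, AlgHom.toRingHom_eq_coe, RingHom.coe_coe, map_sub]
    · rw [he, h1, sub_self]
    · rw [hme, h2, sub_self]
  let χ₀ : D →+* (A ⊗[R] B) ⧸ J :=
    { toFun := fun d => Ideal.Quotient.mk J (e d)
      map_one' := by rw [hJmem 1 1 (by simp) (by simp), map_one]
      map_mul' := fun d d' => by
        rw [hJmem (e d * e d') (d * d') (by simp [map_mul, he]) (by simp [map_mul, hme]), map_mul]
      map_zero' := by rw [hJmem 0 0 (by simp) (by simp), map_zero]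
      map_add' := fun d d' => by
        rw [hJmem (e d + e d') (d + d') (by simp [map_add, he]) (by simp [map_add, hme]), map_add] }
  let : Algebra B (A ⊗[R] B) := (includeRight (R := R) (A := A) (B := B)).toRingHom.toAlgebra
  let χ : D →ₐ[B] (A ⊗[R] B) ⧸ J :=
    { χ₀ with
      commutes' := fun b => hJmem ((1 : A) ⊗ₜ[R] b) _ (by
        change π ((1 : A) ⊗ₜ[R] b) = map g₀R (AlgHom.id R B) (ψ (algebraMap B D b))
        rw [show ψ (algebraMap B D b) = (1 : P) ⊗ₜ[R] b from RingHom.congr_fun hψ b]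
        simp [π]) (by simp [m, a]) }
  obtain ⟨φ, hφ⟩ := Algebra.FormallySmooth.exists_lift J ⟨2, hJ⟩ χ
  have hφJ : ∀ d, π (φ d) = φ₀ d ∧ m (φ d) = x d := fun d => by
    have hd : φ d - e d ∈ J := Ideal.Quotient.eq.1 (AlgHom.congr_fun hφ d)
    constructor
    · rw [← he d, ← sub_eq_zero, ← map_sub]; exact hd.1
    · rw [← hme d, ← sub_eq_zero, ← map_sub]; exact hd.2
  obtain ⟨h, hh, -⟩ := huniv A φ.toRingHom (RingHom.ext fun b => φ.commutes b)
  have hhR : mk.comp h = g₀R := by
    obtain ⟨k, -, hk⟩ := huniv (A ⧸ I) φ₀ (RingHom.ext fun b => by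
      change map g₀R (AlgHom.id R B) (ψ (algebraMap B D b)) = _
      rw [show ψ (algebraMap B D b) = (1 : P) ⊗ₜ[R] b from RingHom.congr_fun hψ b]
      simp)
    refine (hk _ (RingHom.ext fun d => ?_)).trans (hk _ rfl).symm
    change map (mk.comp h) (AlgHom.id R B) (ψ d) = φ₀ d
    rw [map_comp_apply, show map h (AlgHom.id R B) (ψ d) = φ d from RingHom.congr_fun hh d]
    exact (hφJ d).1
  refine ⟨{ (m.comp (map h (AlgHom.id R B))).toRingHom with commutes' := fun d => ?_ },
    AlgHom.ext fun y => ?_⟩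
  · change m (map h (AlgHom.id R B) (ψ d)) = x d
    rw [show map h (AlgHom.id R B) (ψ d) = φ d from RingHom.congr_fun hh d]
    exact (hφJ d).2
  · change mk (m (map h (AlgHom.id R B) y)) = g₀ y
    rw [← hmπ, ← hm₀, show π (map h (AlgHom.id R B) y) = _ from (map_comp_apply mk h y).symm, hhR]

/-- A morphism of Weil restrictions induced by a formally smooth map is formally smooth. -/
theorem map_formallySmooth {R B C D PX PY : Type u} [CommRing R] [CommRing B] [Algebra R B] [CommRing C]
    [CommRing D] [Algebra C D] [Algebra.FormallySmooth C D] (β : B →+* C)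
    [CommRing PX] [Algebra R PX] [CommRing PY] [Algebra R PY] (ψY : C →+* PY ⊗[R] B)
    (ψX : D →+* PX ⊗[R] B) (hY : IsUniv β PY ψY) (hX : IsUniv ((algebraMap C D).comp β) PX ψX)
    (h : PY →ₐ[R] PX) (hh : ∀ c, map h (AlgHom.id R B) (ψY c) = ψX (algebraMap C D c)) :
    letI := h.toRingHom.toAlgebra
    Algebra.FormallySmooth PY PX := by
  let := h.toRingHom.toAlgebra
  refine Algebra.FormallySmooth.of_comp_surjective fun A _ _ I hI g₀ => ?_
  let := ((algebraMap PY A).comp (algebraMap R PY)).toAlgebra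
  let yA : PY →ₐ[R] A := { algebraMap PY A with commutes' := fun r => rfl }
  let mk := Ideal.Quotient.mkₐ R I
  let g₀R : PX →ₐ[R] A ⧸ I :=
    { g₀.toRingHom with
      commutes' := fun r => by
        change g₀ (algebraMap R PX r) = mk (algebraMap PY A (algebraMap R PY r))
        rw [show algebraMap R PX r = h (algebraMap R PY r) from (h.commutes r).symm]
        exact g₀.commutes _ }
  let π : A ⊗[R] B →ₐ[R] (A ⧸ I) ⊗[R] B := map mk (AlgHom.id R B)
  let φ₀ : D →+* (A ⧸ I) ⊗[R] B := (map g₀R (AlgHom.id R B)).toRingHom.comp ψX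
  let := ((map yA (AlgHom.id R B)).toRingHom.comp ψY).toAlgebra
  have hπc : ∀ c, π (algebraMap C (A ⊗[R] B) c) = φ₀ (algebraMap C D c) := fun c => by
    change π (map yA (AlgHom.id R B) (ψY c)) = map g₀R (AlgHom.id R B) (ψX (algebraMap C D c))
    rw [← hh, ← map_comp_apply g₀R h, show π (map yA (AlgHom.id R B) (ψY c)) = _ from (map_comp_apply mk yA _).symm]
    congr 2
    exact AlgHom.ext fun p => (g₀.commutes p).symm
  choose e he using fun d => map_mk_surjective (R := R) (B := B) I (φ₀ d)
  change ∀ d, π (e d) = φ₀ d at he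
  let J : Ideal (A ⊗[R] B) := RingHom.ker π.toRingHom
  have hJ : J ^ 2 = ⊥ := by
    rw [pow_two, eq_bot_iff, Ideal.mul_le]
    exact fun y hy z hz => mul_eq_zero_of_map I hI y z hy hz
  have hJmem : ∀ y d, π y = φ₀ d → Ideal.Quotient.mk J (e d) = Ideal.Quotient.mk J y := fun y d h1 => by
    refine Ideal.Quotient.eq.2 ?_
    simp only [J, RingHom.mem_ker, AlgHom.toRingHom_eq_coe, RingHom.coe_coe, map_sub]
    rw [he, h1, sub_self]
  let χ : D →ₐ[C] (A ⊗[R] B) ⧸ J :=
    { toFun := fun d => Ideal.Quotient.mk J (e d)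
      map_one' := by rw [hJmem 1 1 (by simp), map_one]
      map_mul' := fun d d' => by rw [hJmem (e d * e d') (d * d') (by simp [map_mul, he]), map_mul]
      map_zero' := by rw [hJmem 0 0 (by simp), map_zero]
      map_add' := fun d d' => by rw [hJmem (e d + e d') (d + d') (by simp [map_add, he]), map_add]
      commutes' := fun c => hJmem _ _ (hπc c) }
  obtain ⟨φ, hφ⟩ := Algebra.FormallySmooth.exists_lift J ⟨2, hJ⟩ χ
  have hφJ : ∀ d, π (φ d) = φ₀ d := fun d => by
    have hd : φ d - e d ∈ J := Ideal.Quotient.eq.1 (AlgHom.congr_fun hφ d)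
    rw [← he d, ← sub_eq_zero, ← map_sub]; exact hd
  have hφβ : φ.toRingHom.comp ((algebraMap C D).comp β) =
      (includeRight (R := R) (A := A) (B := B)).toRingHom := RingHom.ext fun b => by
    change φ (algebraMap C D (β b)) = _
    rw [φ.commutes]
    change map yA (AlgHom.id R B) (ψY (β b)) = _
    rw [show ψY (β b) = (1 : PY) ⊗ₜ[R] b from RingHom.congr_fun hY.1 b]
    simp
  obtain ⟨g, hg, -⟩ := hX.2 A φ.toRingHom hφβ
  have hgy : g.comp h = yA := by
    obtain ⟨k, -, hk⟩ := hY.2 A ((map yA (AlgHom.id R B)).toRingHom.comp ψY) (RingHom.ext fun b => by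
      change map yA (AlgHom.id R B) (ψY (β b)) = _
      rw [show ψY (β b) = (1 : PY) ⊗ₜ[R] b from RingHom.congr_fun hY.1 b]
      simp)
    refine (hk _ (RingHom.ext fun c => ?_)).trans (hk _ rfl).symm
    change map (g.comp h) (AlgHom.id R B) (ψY c) = map yA (AlgHom.id R B) (ψY c)
    rw [map_comp_apply, hh, show map g (AlgHom.id R B) (ψX (algebraMap C D c)) = φ (algebraMap C D c) from
      RingHom.congr_fun hg _]
    exact φ.commutes c
  have hgR : mk.comp g = g₀R := by
    obtain ⟨k, -, hk⟩ := hX.2 (A ⧸ I) φ₀ (RingHom.ext fun b => by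
      change map g₀R (AlgHom.id R B) (ψX (algebraMap C D (β b))) = _
      rw [show ψX (algebraMap C D (β b)) = (1 : PX) ⊗ₜ[R] b from RingHom.congr_fun hX.1 b]
      simp)
    refine (hk _ (RingHom.ext fun d => ?_)).trans (hk _ rfl).symm
    change map (mk.comp g) (AlgHom.id R B) (ψX d) = φ₀ d
    rw [map_comp_apply, show map g (AlgHom.id R B) (ψX d) = φ d from RingHom.congr_fun hg d]
    exact hφJ d
  exact ⟨{ g.toRingHom with commutes' := fun p => AlgHom.congr_fun hgy p },
    AlgHom.ext fun p => AlgHom.congr_fun hgR p⟩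

open CategoryTheory CategoryTheory.Limits AlgebraicGeometry in
/-- A surjective algebra of finite type has points in every algebraically closed field. -/
theorem exists_point {C D : Type u} [CommRing C] [CommRing D] [Algebra C D] [Algebra.FiniteType C D]
    (hsurj : Function.Surjective (PrimeSpectrum.comap (algebraMap C D)))
    (L : Type u) [Field L] [IsAlgClosed L] (y : C →+* L) :
    ∃ z : D →+* L, z.comp (algebraMap C D) = y := by
  let := y.toAlgebra
  have : Nontrivial (L ⊗[C] D) := by
    obtain ⟨q, hq⟩ := hsurj ⟨RingHom.ker y, RingHom.ker_isPrime y⟩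
    obtain ⟨z, -, -⟩ := Scheme.Pullback.exists_preimage_pullback
      (f := Spec.map (CommRingCat.ofHom (algebraMap C L))) (g := Spec.map (CommRingCat.ofHom (algebraMap C D)))
      (IsLocalRing.closedPoint L) q (by
        refine Eq.trans ?_ hq.symm
        apply PrimeSpectrum.ext
        change Ideal.comap y (IsLocalRing.maximalIdeal L) = RingHom.ker y
        rw [IsLocalRing.maximalIdeal_eq_bot]
        rfl)
    exact PrimeSpectrum.nonempty_iff_nontrivial.1 ⟨(pullbackSpecIso C L D).hom z⟩
  obtain ⟨m, hm⟩ := Ideal.exists_maximal (L ⊗[C] D)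
  let := Ideal.Quotient.field m
  have := finite_of_finite_type_of_isJacobsonRing L ((L ⊗[C] D) ⧸ m)
  have hb := IsAlgClosed.algebraMap_bijective_of_isIntegral (k := L) (K := (L ⊗[C] D) ⧸ m)
  let ev : (L ⊗[C] D) ⧸ m ≃+* L := (RingEquiv.ofBijective _ hb).symm
  refine ⟨ev.toRingHom.comp ((Ideal.Quotient.mk m).comp
    (includeRight (R := C) (A := L) (B := D)).toRingHom), RingHom.ext fun c => ?_⟩
  change ev (Ideal.Quotient.mk m ((1 : L) ⊗ₜ[C] algebraMap C D c)) = y c
  have : (1 : L) ⊗ₜ[C] algebraMap C D c = algebraMap L (L ⊗[C] D) (y c) := by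
    rw [Algebra.algebraMap_eq_smul_one, ← TensorProduct.smul_tmul]
    simp [Algebra.smul_def, RingHom.algebraMap_toAlgebra]
  rw [this]
  exact (RingEquiv.ofBijective _ hb).symm_apply_apply (y c)

/-- A compatible choice of points on the maximal ideals of an Artinian algebra lifts through a formally smooth
algebra. -/
theorem exists_lift_of_points {C D E : Type u} [CommRing C] [CommRing D] [Algebra C D]
    [Algebra.FormallySmooth C D] [CommRing E] [IsArtinianRing E] (y : C →+* E)
    (pts : ∀ M : MaximalSpectrum E, D →+* E ⧸ M.asIdeal)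
    (hpts : ∀ M c, pts M (algebraMap C D c) = Ideal.Quotient.mk _ (y c)) :
    ∃ φ : D →+* E, φ.comp (algebraMap C D) = y ∧ ∀ M d, Ideal.Quotient.mk _ (φ d) = pts M d := by
  let := y.toAlgebra
  let Ψ := IsArtinianRing.quotNilradicalEquivPi E
  have hΨ : ∀ z M, Ψ (Ideal.Quotient.mk _ z) M = Ideal.Quotient.mk M.asIdeal z := fun z M => rfl
  let χ₀ : D →+* E ⧸ nilradical E := Ψ.toRingEquiv.symm.toRingHom.comp (RingHom.pi pts)
  let χ : D →ₐ[C] E ⧸ nilradical E :=
    { χ₀ with
      commutes' := fun c => by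
        apply Ψ.toRingEquiv.injective
        change Ψ (Ψ.symm (RingHom.pi pts (algebraMap C D c))) = Ψ (Ideal.Quotient.mk _ (y c))
        rw [Ψ.apply_symm_apply]
        funext M
        rw [hΨ]
        exact hpts M c }
  obtain ⟨φ, hφ⟩ := Algebra.FormallySmooth.exists_lift (nilradical E) IsArtinianRing.isNilpotent_nilradical χ
  refine ⟨φ.toRingHom, φ.comp_algebraMap, fun M d => ?_⟩
  change Ideal.Quotient.mk _ (φ d) = _
  rw [← hΨ, show Ideal.Quotient.mk (nilradical E) (φ d) = Ψ.symm (RingHom.pi pts d) from AlgHom.congr_fun hφ d,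
    Ψ.apply_symm_apply]
  rfl

/-- Points of the maximal ideals of a finite algebra over an algebraically closed field. -/
theorem exists_pts {C D E : Type u} [CommRing C] [CommRing D] [Algebra C D] [Algebra.FiniteType C D]
    (hsurj : Function.Surjective (PrimeSpectrum.comap (algebraMap C D)))
    (K : Type u) [Field K] [IsAlgClosed K] [CommRing E] [Algebra K E] [Module.Finite K E] (y : C →+* E)
    (M : MaximalSpectrum E) :
    ∃ z : D →+* E ⧸ M.asIdeal, ∀ c, z (algebraMap C D c) = Ideal.Quotient.mk _ (y c) := by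
  have := M.isMaximal
  let := Ideal.Quotient.field M.asIdeal
  have hb := IsAlgClosed.algebraMap_bijective_of_isIntegral (k := K) (K := E ⧸ M.asIdeal)
  let ev := RingEquiv.ofBijective _ hb
  obtain ⟨z, hz⟩ := exists_point hsurj K (ev.symm.toRingHom.comp ((Ideal.Quotient.mk _).comp y))
  refine ⟨ev.toRingHom.comp z, fun c => ?_⟩
  change ev (z (algebraMap C D c)) = _
  rw [show z (algebraMap C D c) = _ from RingHom.congr_fun hz c]
  exact ev.apply_symm_apply _

/-- The counit of the Weil restriction of a smooth surjective algebra is surjective. -/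
theorem counit_surjective {R B D P : Type u} [CommRing R] [CommRing B] [Algebra R B] [Module.Finite R B]
    [CommRing D] [Algebra B D] [Algebra.FormallySmooth B D] [Algebra.FiniteType B D]
    (hsurj : Function.Surjective (PrimeSpectrum.comap (algebraMap B D)))
    [CommRing P] [Algebra R P] (ψ : D →+* P ⊗[R] B) (hP : IsUniv (algebraMap B D) P ψ) :
    Function.Surjective (PrimeSpectrum.comap ψ) := by
  intro q
  let K := AlgebraicClosure q.asIdeal.ResidueField
  let x : D →+* K := (algebraMap q.asIdeal.ResidueField K).comp (algebraMap D q.asIdeal.ResidueField)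
  let := ((x.comp (algebraMap B D)).comp (algebraMap R B)).toAlgebra
  let a : B →ₐ[R] K := { x.comp (algebraMap B D) with commutes' := fun r => rfl }
  let m : K ⊗[R] B →ₐ[R] K := productMap (AlgHom.id R K) a
  have : IsArtinianRing (K ⊗[R] B) := IsArtinianRing.of_finite K _
  have hm : Function.Surjective m := fun k => ⟨k ⊗ₜ 1, by simp [m]⟩
  let M₀ : MaximalSpectrum (K ⊗[R] B) :=
    ⟨RingHom.ker m.toRingHom, RingHom.ker_isMaximal_of_surjective _ hm⟩
  let ev₀ : (K ⊗[R] B) ⧸ M₀.asIdeal ≃+* K := RingHom.quotientKerEquivOfSurjective (f := m.toRingHom) hm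
  have hev₀ : ∀ z, ev₀ (Ideal.Quotient.mk _ z) = m z := fun z => rfl
  let incl := (includeRight (R := R) (A := K) (B := B)).toRingHom
  choose pts hpts using exists_pts hsurj K incl
  classical
  let pts' := Function.update pts M₀ (ev₀.symm.toRingHom.comp x)
  obtain ⟨φ, hφ, hφM⟩ := exists_lift_of_points incl pts' (fun M c => by
    by_cases hM : M = M₀
    · subst hM
      simp only [pts', Function.update_self]
      apply ev₀.injective
      change ev₀ (ev₀.symm (x (algebraMap B D c))) = _
      rw [ev₀.apply_symm_apply, hev₀]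
      simp [incl, m, a]
    · simp only [pts', ne_eq, hM, not_false_eq_true, Function.update_of_ne]
      exact hpts M c)
  obtain ⟨h, hh, -⟩ := hP.2 K φ hφ
  have hmx : ∀ d, m (φ d) = x d := fun d => by
    rw [← hev₀, hφM]
    simp only [pts', Function.update_self]
    exact ev₀.apply_symm_apply _
  refine ⟨⟨RingHom.ker (m.comp (map h (AlgHom.id R B))).toRingHom, RingHom.ker_isPrime _⟩, PrimeSpectrum.ext ?_⟩
  ext d
  change m (map h (AlgHom.id R B) (ψ d)) = 0 ↔ d ∈ q.asIdeal
  rw [show map h (AlgHom.id R B) (ψ d) = φ d from RingHom.congr_fun hh d, hmx]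
  simp [x, Ideal.algebraMap_residueField_eq_zero]

/-- A morphism of Weil restrictions induced by a smooth surjective map is surjective. -/
theorem map_surjective {R B C D PX PY : Type u} [CommRing R] [CommRing B] [Algebra R B] [Module.Finite R B]
    [CommRing C] [CommRing D] [Algebra C D] [Algebra.FormallySmooth C D] [Algebra.FiniteType C D]
    (hsurj : Function.Surjective (PrimeSpectrum.comap (algebraMap C D))) (β : B →+* C)
    [CommRing PX] [Algebra R PX] [CommRing PY] [Algebra R PY] (ψY : C →+* PY ⊗[R] B)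
    (ψX : D →+* PX ⊗[R] B) (hY : IsUniv β PY ψY) (hX : IsUniv ((algebraMap C D).comp β) PX ψX)
    (h : PY →ₐ[R] PX) (hh : ∀ c, map h (AlgHom.id R B) (ψY c) = ψX (algebraMap C D c)) :
    Function.Surjective (PrimeSpectrum.comap h.toRingHom) := by
  intro q
  let K := AlgebraicClosure q.asIdeal.ResidueField
  let x : PY →+* K := (algebraMap q.asIdeal.ResidueField K).comp (algebraMap PY q.asIdeal.ResidueField)
  let := (x.comp (algebraMap R PY)).toAlgebra
  let yA : PY →ₐ[R] K := { x with commutes' := fun r => rfl }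
  have : IsArtinianRing (K ⊗[R] B) := IsArtinianRing.of_finite K _
  let y : C →+* K ⊗[R] B := (map yA (AlgHom.id R B)).toRingHom.comp ψY
  choose pts hpts using exists_pts hsurj K y
  obtain ⟨φ, hφ, -⟩ := exists_lift_of_points y pts hpts
  have hφβ : φ.comp ((algebraMap C D).comp β) = (includeRight (R := R) (A := K) (B := B)).toRingHom :=
    RingHom.ext fun b => by
      change φ (algebraMap C D (β b)) = _
      rw [show φ (algebraMap C D (β b)) = y (β b) from RingHom.congr_fun hφ (β b)]
      change map yA (AlgHom.id R B) (ψY (β b)) = _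
      rw [show ψY (β b) = (1 : PY) ⊗ₜ[R] b from RingHom.congr_fun hY.1 b]
      simp
  obtain ⟨g, hg, -⟩ := hX.2 K φ hφβ
  have hgy : g.comp h = yA := by
    obtain ⟨k, -, hk⟩ := hY.2 K y (RingHom.ext fun b => by
      change map yA (AlgHom.id R B) (ψY (β b)) = _
      rw [show ψY (β b) = (1 : PY) ⊗ₜ[R] b from RingHom.congr_fun hY.1 b]
      simp)
    refine (hk _ (RingHom.ext fun c => ?_)).trans (hk _ rfl).symm
    change map (g.comp h) (AlgHom.id R B) (ψY c) = y c
    rw [map_comp_apply, hh, show map g (AlgHom.id R B) (ψX (algebraMap C D c)) = φ (algebraMap C D c) from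
      RingHom.congr_fun hg _]
    exact RingHom.congr_fun hφ c
  refine ⟨⟨RingHom.ker g.toRingHom, RingHom.ker_isPrime _⟩, PrimeSpectrum.ext ?_⟩
  ext p
  change g (h p) = 0 ↔ p ∈ q.asIdeal
  rw [show g (h p) = x p from AlgHom.congr_fun hgy p]
  simp [x, Ideal.algebraMap_residueField_eq_zero]

end Groth.Agent.Lib.WeilRep.SmoothAlg
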