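import Groth.Agent.Lib.WeilRep.Affine
import Groth.Agent.Lib.WeilRep.SmoothAlg
import Mathlib.AlgebraicGeometry.Morphisms.Smooth
import Mathlib.RingTheory.RingHom.Smooth

/-!
# The counit of the Weil restriction of affine schemes over an affine base
-/

set_option autoImplicit false
set_option backward.isDefEq.respectTransparency false
set_option backward.isDefEq.respectTransparency.types false
set_option linter.style.haveILetI false

noncomputable section

universe u

open CategoryTheory CategoryTheory.Limits AlgebraicGeometry Opposite TopologicalSpace TensorProduct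

namespace Groth.Agent.Lib.WeilRep.Counit

open Glue

variable {R B : Type u} [CommRing R] [CommRing B] [Algebra R B]

/-- The morphism of spectra of a ring extension. -/
abbrev spf (R B : Type u) [CommRing R] [CommRing B] [Algebra R B] :
    Spec (CommRingCat.of B) ⟶ Spec (CommRingCat.of R) :=
  Spec.map (CommRingCat.ofHom (algebraMap R B))

theorem isPullback_id (R B : Type u) [CommRing R] [CommRing B] [Algebra R B] :
    IsPullback (spf R B) (𝟙 _) (𝟙 _) (spf R B) := IsPullback.of_vert_isIso ⟨by simp⟩

/-- The candidate Weil restriction attached to an algebra. -/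
abbrev wObj (R P : Type u) [CommRing R] [CommRing P] [Algebra R P] : Over (Spec (CommRingCat.of R)) :=
  Over.mk (Spec.map (CommRingCat.ofHom (algebraMap R P)) ≫ 𝟙 _)

/-- The chart over the whole affine base. -/
theorem exists_univ (X' : Over (Spec (CommRingCat.of B))) [IsAffine X'.left] {D : Type u} [CommRing D]
    (θ : Spec (CommRingCat.of D) ≅ X'.left) (β : B →+* D) (hθ : θ.hom ≫ X'.hom = Spec.map (CommRingCat.ofHom β))
    {P : Type u} [CommRing P] [Algebra R P] {ψ : D →+* P ⊗[R] B} (hP : AlgFinite.IsUniv β P ψ) :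
    ∃ u : (Over.pullback (spf R B)).obj (wObj R P) ⟶ X',
      u.left = (Affine.isPullback_test (spf R B) (isPullback_id R B) P).isoPullback.inv ≫
        Spec.map (CommRingCat.ofHom ψ) ≫ θ.hom ∧
      ∀ T : Over (Spec (CommRingCat.of R)),
        BijAt (F := (Over.pullback (spf R B)).op ⋙ yoneda.obj X') u T := by
  have hD : IsPullback (Spec.map (CommRingCat.ofHom β)) θ.hom (𝟙 _) X'.hom :=
    IsPullback.of_vert_isIso ⟨by rw [Category.comp_id, hθ]⟩
  obtain ⟨u, hu, hb⟩ := Affine.exists_chart_of_univ (spf R B) X' β (𝟙 _) (𝟙 _) θ.hom (isPullback_id R B) hD P ψ hP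
  refine ⟨u, hu, fun T => bijAt_of_affine (Sheaf.isZSheaf (spf R B) X') ⊤
    (fun T hT _ => hb T hT fun x => ⟨T.hom x, rfl⟩) T fun x => trivial⟩

/-- Any Weil restriction is isomorphic to the one of the universal algebra. -/
theorem exists_iso {X' : Over (Spec (CommRingCat.of B))} {W : Over (Spec (CommRingCat.of R))}
    {u : (Over.pullback (spf R B)).obj W ⟶ X'}
    (hu : ∀ T, BijAt (F := (Over.pullback (spf R B)).op ⋙ yoneda.obj X') u T)
    (RX : Over (Spec (CommRingCat.of R)))
    (e : ∀ Y : Over (Spec (CommRingCat.of R)), (Y ⟶ RX) ≃ ((Over.pullback (spf R B)).obj Y ⟶ X'))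
    (he : ∀ (Y Z : Over (Spec (CommRingCat.of R))) (h : Y ⟶ Z) (g : Z ⟶ RX),
      e Y (h ≫ g) = (Over.pullback (spf R B)).map h ≫ e Z g) :
    ∃ i : RX ≅ W, (Over.pullback (spf R B)).map i.hom ≫ u = e RX (𝟙 RX) := by
  obtain ⟨φ, hφ⟩ := (hu RX).2 (e RX (𝟙 RX))
  change (Over.pullback (spf R B)).map φ ≫ u = _ at hφ
  let χ : W ⟶ RX := (e W).symm u
  have hχ : (Over.pullback (spf R B)).map χ ≫ e RX (𝟙 RX) = u := by
    rw [← he, Category.comp_id]; exact (e W).apply_symm_apply u
  refine ⟨⟨φ, χ, (e RX).injective ?_, (hu W).1 ?_⟩, hφ⟩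
  · rw [he, (e W).apply_symm_apply, hφ]
  · change (Over.pullback (spf R B)).map (χ ≫ φ) ≫ u = (Over.pullback (spf R B)).map (𝟙 W) ≫ u
    rw [Functor.map_comp, Category.assoc, hφ, hχ, CategoryTheory.Functor.map_id, Category.id_comp]

/-- Base change of a finitely presented algebra on the right factor. -/
theorem includeRight_finitePresentation (P : Type u) [CommRing P] [Algebra R P] [Algebra.FinitePresentation R P] :
    (Algebra.TensorProduct.includeRight (R := R) (A := P) (B := B)).toRingHom.FinitePresentation := by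
  have h1 : (algebraMap B (B ⊗[R] P)).FinitePresentation :=
    RingHom.finitePresentation_algebraMap.2 inferInstance
  have h2 := RingHom.finitePresentation_respectsIso.1 _ (Algebra.TensorProduct.comm R B P).toRingEquiv h1
  convert h2 using 1
  ext b
  simp [Algebra.TensorProduct.algebraMap_apply]

section

variable [Module.Finite R B] [Module.Projective R B]

/-- The counit of the Weil restriction of a smooth surjective affine scheme is smooth and surjective. -/
theorem smooth_surjective (X' : Over (Spec (CommRingCat.of B))) [IsAffine X'.left] [Smooth X'.hom]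
    [Surjective X'.hom] (RX : Over (Spec (CommRingCat.of R)))
    (e : ∀ Y : Over (Spec (CommRingCat.of R)), (Y ⟶ RX) ≃ ((Over.pullback (spf R B)).obj Y ⟶ X'))
    (he : ∀ (Y Z : Over (Spec (CommRingCat.of R))) (h : Y ⟶ Z) (g : Z ⟶ RX),
      e Y (h ≫ g) = (Over.pullback (spf R B)).map h ≫ e Z g) :
    Smooth (e RX (𝟙 RX)).left ∧ Surjective (e RX (𝟙 RX)).left := by
  let θ : Spec (CommRingCat.of Γ(X'.left, ⊤)) ≅ X'.left := X'.left.isoSpec.symm
  obtain ⟨β, hβ⟩ := Spec.map_surjective (θ.hom ≫ X'.hom)
  letI : Algebra B Γ(X'.left, ⊤) := β.hom.toAlgebra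
  have hsm : Smooth (Spec.map β) := by rw [hβ]; infer_instance
  rw [HasRingHomProperty.Spec_iff (P := @Smooth)] at hsm
  have hDs : Algebra.Smooth B Γ(X'.left, ⊤) := hsm
  haveI := hDs.formallySmooth
  haveI := hDs.finitePresentation
  have hsurj : Function.Surjective (PrimeSpectrum.comap (algebraMap B Γ(X'.left, ⊤))) := by
    have : Surjective (Spec.map β) := by rw [hβ]; infer_instance
    exact this.1
  obtain ⟨P, _, _, ψ, hP⟩ := AlgFinite.exists_isUniv (R := R) (B := B) (algebraMap B Γ(X'.left, ⊤))
  obtain ⟨u, hu, hbij⟩ := exists_univ X' θ (algebraMap B Γ(X'.left, ⊤)) hβ.symm hP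
  obtain ⟨i, hi⟩ := exists_iso hbij RX e he
  haveI : Algebra.FinitePresentation R P := AlgFinite.finitePresentation _ inferInstance hP
  have hψfp : ψ.FinitePresentation := by
    refine RingHom.FinitePresentation.of_comp_finiteType (algebraMap B Γ(X'.left, ⊤)) ?_
      (RingHom.finiteType_algebraMap.2 inferInstance)
    rw [hP.1]
    exact includeRight_finitePresentation P
  have hψ : ψ.Smooth := by
    letI := ψ.toAlgebra
    exact { formallySmooth := SmoothAlg.counit_formallySmooth ψ hP, finitePresentation := hψfp }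
  haveI : Smooth (Spec.map (CommRingCat.ofHom ψ)) := by
    rw [HasRingHomProperty.Spec_iff (P := @Smooth)]; exact hψ
  haveI : Surjective (Spec.map (CommRingCat.ofHom ψ)) := ⟨SmoothAlg.counit_surjective hsurj ψ hP⟩
  haveI : IsIso ((Over.pullback (spf R B)).map i.hom).left :=
    inferInstanceAs (IsIso ((Over.forget _).map ((Over.pullback (spf R B)).map i.hom)))
  rw [← hi, Over.comp_left, hu]
  exact ⟨inferInstance, inferInstance⟩

/-- The morphism of Weil restrictions induced by a smooth surjective morphism of affine schemes of finite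
presentation is smooth and surjective. -/
theorem map_smooth_surjective (X' Y' : Over (Spec (CommRingCat.of B))) [IsAffine X'.left] [IsAffine Y'.left]
    [LocallyOfFinitePresentation Y'.hom] (f' : X' ⟶ Y') [Smooth f'.left] [Surjective f'.left]
    (RX RY : Over (Spec (CommRingCat.of R)))
    (eX : ∀ Z : Over (Spec (CommRingCat.of R)), (Z ⟶ RX) ≃ ((Over.pullback (spf R B)).obj Z ⟶ X'))
    (heX : ∀ (Z W : Over (Spec (CommRingCat.of R))) (h : Z ⟶ W) (g : W ⟶ RX),
      eX Z (h ≫ g) = (Over.pullback (spf R B)).map h ≫ eX W g)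
    (eY : ∀ Z : Over (Spec (CommRingCat.of R)), (Z ⟶ RY) ≃ ((Over.pullback (spf R B)).obj Z ⟶ Y'))
    (heY : ∀ (Z W : Over (Spec (CommRingCat.of R))) (h : Z ⟶ W) (g : W ⟶ RY),
      eY Z (h ≫ g) = (Over.pullback (spf R B)).map h ≫ eY W g) :
    Smooth ((eY RX).symm (eX RX (𝟙 RX) ≫ f')).left ∧
      Surjective ((eY RX).symm (eX RX (𝟙 RX) ≫ f')).left := by
  let θY : Spec (CommRingCat.of Γ(Y'.left, ⊤)) ≅ Y'.left := Y'.left.isoSpec.symm
  let θX : Spec (CommRingCat.of Γ(X'.left, ⊤)) ≅ X'.left := X'.left.isoSpec.symm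
  obtain ⟨β, hβ⟩ := Spec.map_surjective (θY.hom ≫ Y'.hom)
  letI : Algebra Γ(Y'.left, ⊤) Γ(X'.left, ⊤) := f'.left.appTop.hom.toAlgebra
  have hθf : θX.hom ≫ f'.left = Spec.map f'.left.appTop ≫ θY.hom :=
    (Scheme.isoSpec_inv_naturality f'.left).symm
  have hsm : Smooth (Spec.map f'.left.appTop) := by
    rw [← MorphismProperty.cancel_right_of_respectsIso @Smooth _ θY.hom, ← hθf]; infer_instance
  rw [HasRingHomProperty.Spec_iff (P := @Smooth)] at hsm
  have hDs : Algebra.Smooth Γ(Y'.left, ⊤) Γ(X'.left, ⊤) := hsm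
  haveI := hDs.formallySmooth
  haveI := hDs.finitePresentation
  have hsurj : Function.Surjective (PrimeSpectrum.comap (algebraMap Γ(Y'.left, ⊤) Γ(X'.left, ⊤))) := by
    have : Surjective (Spec.map f'.left.appTop) := by
      rw [← MorphismProperty.cancel_right_of_respectsIso @Surjective _ θY.hom, ← hθf]; infer_instance
    exact this.1
  have hlfp : LocallyOfFinitePresentation (Spec.map β) := by rw [hβ]; infer_instance
  rw [HasRingHomProperty.Spec_iff (P := @LocallyOfFinitePresentation)] at hlfp
  let γ := algebraMap Γ(Y'.left, ⊤) Γ(X'.left, ⊤)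
  have hθX : θX.hom ≫ X'.hom = Spec.map (CommRingCat.ofHom (γ.comp β.hom)) := by
    rw [CommRingCat.ofHom_comp, Spec.map_comp, CommRingCat.ofHom_hom, hβ, ← Over.w f', reassoc_of% hθf]
    rfl
  obtain ⟨PY, _, _, ψY, hY⟩ := AlgFinite.exists_isUniv (R := R) (B := B) β.hom
  obtain ⟨PX, _, _, ψX, hX⟩ := AlgFinite.exists_isUniv (R := R) (B := B) (γ.comp β.hom)
  obtain ⟨uY, huY, hbY⟩ := exists_univ Y' θY β.hom hβ.symm hY
  obtain ⟨uX, huX, hbX⟩ := exists_univ X' θX _ hθX hX
  obtain ⟨iY, hiY⟩ := exists_iso hbY RY eY heY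
  obtain ⟨iX, hiX⟩ := exists_iso hbX RX eX heX
  obtain ⟨h, hh, -⟩ := hY.2 PX (ψX.comp γ) (by rw [RingHom.comp_assoc]; exact hX.1)
  let m : wObj R PX ⟶ wObj R PY := Over.homMk (Spec.map (CommRingCat.ofHom h.toRingHom)) (by
    change _ ≫ Spec.map _ ≫ 𝟙 _ = Spec.map _ ≫ 𝟙 _
    rw [Category.comp_id, Category.comp_id, ← Spec.map_comp]
    congr 1
    ext r
    exact h.commutes r)
  have hm : (Over.pullback (spf R B)).map m ≫ uY = uX ≫ f' := by
    apply Over.OverMorphism.ext
    rw [Over.comp_left, Over.comp_left, huY, huX]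
    have hpull : (Affine.isPullback_test (spf R B) (isPullback_id R B) PX).isoPullback.hom ≫
        ((Over.pullback (spf R B)).map m).left =
        Spec.map (CommRingCat.ofHom (Algebra.TensorProduct.map h (AlgHom.id R B)).toRingHom) ≫
          (Affine.isPullback_test (spf R B) (isPullback_id R B) PY).isoPullback.hom := by
      rw [Sheaf.pullback_map_left]
      apply pullback.hom_ext
      · refine (Category.assoc _ _ _).trans ?_
        rw [pullback.lift_fst, Category.assoc, IsPullback.isoPullback_hom_fst,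
          IsPullback.isoPullback_hom_fst_assoc]
        change _ ≫ Spec.map _ = _
        rw [← Spec.map_comp, ← Spec.map_comp]
        congr 1
      · refine (Category.assoc _ _ _).trans ?_
        rw [pullback.lift_snd, Category.assoc, IsPullback.isoPullback_hom_snd,
          IsPullback.isoPullback_hom_snd]
        rw [← Spec.map_comp_assoc]
        congr 2
        ext b
        simp
    rw [← cancel_epi (Affine.isPullback_test (spf R B) (isPullback_id R B) PX).isoPullback.hom,
      reassoc_of% hpull, Iso.hom_inv_id_assoc]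
    simp only [Category.assoc, Iso.hom_inv_id_assoc]
    rw [hθf, ← Spec.map_comp_assoc, ← Spec.map_comp_assoc]
    congr 2
    exact CommRingCat.hom_ext hh
  have hmor : (eY RX).symm (eX RX (𝟙 RX) ≫ f') = iX.hom ≫ m ≫ iY.inv := by
    rw [Equiv.symm_apply_eq, ← Category.comp_id (iX.hom ≫ m ≫ iY.inv), heY, ← hiY]
    simp only [Functor.map_comp, Category.assoc]
    rw [← Functor.map_comp_assoc _ iY.inv iY.hom, iY.inv_hom_id, CategoryTheory.Functor.map_id, Category.id_comp,
      hm, ← Category.assoc, hiX]
  haveI : Algebra.FinitePresentation R PY :=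
    AlgFinite.finitePresentation _ (by letI := β.hom.toAlgebra; exact hlfp) hY
  haveI : Algebra.FinitePresentation R PX :=
    AlgFinite.finitePresentation _ (by
      letI := (γ.comp β.hom).toAlgebra
      exact RingHom.FinitePresentation.comp
        (RingHom.finitePresentation_algebraMap.2 (inferInstance : Algebra.FinitePresentation Γ(Y'.left, ⊤) Γ(X'.left, ⊤)))
        hlfp) hX
  have hfp : h.toRingHom.FinitePresentation := by
    refine RingHom.FinitePresentation.of_comp_finiteType (algebraMap R PY) ?_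
      (RingHom.finiteType_algebraMap.2 inferInstance)
    rw [AlgHom.toRingHom_eq_coe, AlgHom.comp_algebraMap]
    exact RingHom.finitePresentation_algebraMap.2 inferInstance
  have hsmh : h.toRingHom.Smooth := by
    letI := h.toRingHom.toAlgebra
    exact { formallySmooth := SmoothAlg.map_formallySmooth β.hom ψY ψX hY hX h (fun c => RingHom.congr_fun hh c)
            finitePresentation := hfp }
  haveI : Smooth m.left := by
    change Smooth (Spec.map (CommRingCat.ofHom h.toRingHom))
    rw [HasRingHomProperty.Spec_iff (P := @Smooth)]; exact hsmh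
  haveI : Surjective m.left :=
    ⟨SmoothAlg.map_surjective hsurj β.hom ψY ψX hY hX h (fun c => RingHom.congr_fun hh c)⟩
  haveI : IsIso iX.hom.left := inferInstanceAs (IsIso ((Over.forget _).map iX.hom))
  haveI : IsIso iY.inv.left := inferInstanceAs (IsIso ((Over.forget _).map iY.inv))
  rw [hmor, Over.comp_left, Over.comp_left]
  exact ⟨inferInstance, inferInstance⟩

end

end Groth.Agent.Lib.WeilRep.Counit
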