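import Groth.Agent.Lib.WeilRep.KernelGen
import Groth.Agent.Lib.GrpSch.Basic
import Groth.Prelude.Def_WeilRes

/-!
# The kernel of the counit: affine, of finite type, of finite exponent
-/

set_option autoImplicit false
set_option backward.isDefEq.respectTransparency false
set_option linter.style.haveILetI false
set_option synthInstance.maxHeartbeats 200000

universe u

open CategoryTheory CategoryTheory.Limits AlgebraicGeometry MonoidalCategory CartesianMonoidalCategory MonObj
open Groth.Agent.Lib Groth.Agent.Lib.WeilRep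

namespace Groth.Agent.Lib.WeilRep.CounitKernel

/-- The kernel of the counit of a purely inseparable Weil restriction is affine, of finite type and of exponent a
power of the exponential characteristic. -/
theorem affine_finiteType_expChar_pow {k k' : Type u} [Field k] [Field k']
    [Algebra k k'] [Module.Finite k k'] [IsPurelyInseparable k k']
    (G' : Over (Spec (CommRingCat.of k'))) [GrpObj G'] [LocallyOfFiniteType G'.hom]
    (R : Over (Spec (CommRingCat.of k))) [GrpObj R] (q : Red.bc (Spec.map (CommRingCat.ofHom (algebraMap k k'))) R ⟶ G') [IsMonHom q]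
    (hR : WeilRes.IsWeilRes (Spec.map (CommRingCat.ofHom (algebraMap k k'))) G' R q)
    (K : Over (Spec (CommRingCat.of k'))) [GrpObj K] (iK : K ⟶ Red.bc (Spec.map (CommRingCat.ofHom (algebraMap k k'))) R) [IsMonHom iK]
    (hK : AlgGrp.IsKernel iK q) :
    IsAffine K.left ∧ LocallyOfFiniteType K.hom ∧ ∃ p m : ℕ, ExpChar k p ∧ (𝟙 K) ^ p ^ m = 1 := by
  let f := Spec.map (CommRingCat.ofHom (algebraMap k k'))
  let e : ∀ Y : Over (Spec (CommRingCat.of k)), (Y ⟶ R) ≃ (Red.bc f Y ⟶ G') := fun Y =>
    Equiv.ofBijective (WeilRes.restr f q Y) (hR Y)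
  have he : ∀ (Y Z : Over (Spec (CommRingCat.of k))) (h : Y ⟶ Z) (g : Z ⟶ R),
      e Y (h ≫ g) = (Over.pullback f).map h ≫ e Z g := fun Y Z h g => WeilRes.restr_comp f q h g
  have hmul : ∀ (Y : Over (Spec (CommRingCat.of k))) (g h : Y ⟶ R), e Y (g * h) = e Y g * e Y h :=
    fun Y g h => WeilRes.restr_mul f q Y g h
  have hq : e R (𝟙 R) = q := WeilRes.restr_id f q
  haveI : IsSeparated G'.hom := GrpSch.isSeparated_of_field G'
  let o₀ : ↥G'.left := (η[G'] : 𝟙_ (Over (Spec (CommRingCat.of k'))) ⟶ G').left.base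
    (IsLocalRing.closedPoint k' : ↥(Spec (CommRingCat.of k')))
  obtain ⟨V, hV, hoV, -⟩ := exists_isAffineOpen_mem_and_subset (X := G'.left) (x := o₀) (U := ⊤) trivial
  let U : Over (Spec (CommRingCat.of k')) := Over.mk (V.ι ≫ G'.hom)
  let jU : U ⟶ G' := Over.homMk V.ι rfl
  haveI : IsOpenImmersion jU.left := inferInstanceAs (IsOpenImmersion V.ι)
  haveI : IsAffine U.left := hV
  have hro : Set.range (η[G'] : 𝟙_ (Over (Spec (CommRingCat.of k'))) ⟶ G').left ⊆ Set.range V.ι := by
    rintro _ ⟨z, rfl⟩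
    rw [Scheme.Opens.range_ι]
    exact (congrArg (fun t => (η[G'] : 𝟙_ (Over (Spec (CommRingCat.of k'))) ⟶ G').left.base t)
      (Subsingleton.elim (α := ↥(Spec (CommRingCat.of k'))) z (IsLocalRing.closedPoint k'))).symm ▸ hoV
  let o : 𝟙_ (Over (Spec (CommRingCat.of k'))) ⟶ U := Over.homMk (IsOpenImmersion.lift V.ι _ hro) (by
    change IsOpenImmersion.lift V.ι _ hro ≫ V.ι ≫ G'.hom = _
    rw [IsOpenImmersion.lift_fac_assoc, Over.w])
  have ho : o ≫ jU = η[G'] := Over.OverMorphism.ext (IsOpenImmersion.lift_fac _ _ _)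
  let θ : Spec (CommRingCat.of Γ(U.left, ⊤)) ≅ U.left := U.left.isoSpec.symm
  obtain ⟨β, hβ⟩ := Spec.map_surjective (θ.hom ≫ U.hom)
  obtain ⟨P, _, _, ψ, hP⟩ := AlgFinite.exists_isUniv (R := k) (B := k') β.hom
  obtain ⟨u, -, hbij⟩ := Counit.exists_univ U θ β.hom hβ.symm hP
  haveI : IsAffine (Counit.wObj k P).left := inferInstanceAs (IsAffine (Spec (CommRingCat.of P)))
  have hK' : AlgGrp.IsKernel iK (e R (𝟙 R)) := by rw [hq]; exact hK
  obtain ⟨iso⟩ := KernelGen.exists_iso_kernel jU o ho e he iK hK' u hbij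
  haveI : IsIso iso.hom.left := inferInstanceAs (IsIso ((Over.forget _).map iso.hom))
  haveI : IsAffine ((Over.pullback f).obj (Counit.wObj k P)).left :=
    inferInstanceAs (IsAffine (pullback (Counit.wObj k P).hom f))
  have hsq := (IsPullback.of_hasPullback u o).map (Over.forget _)
  haveI : IsClosedImmersion o.left := by
    haveI : IsClosedImmersion (o.left ≫ U.hom) := by
      rw [Over.w]; exact inferInstanceAs (IsClosedImmersion (𝟙 (Spec (CommRingCat.of k'))))
    exact IsClosedImmersion.of_comp _ U.hom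
  haveI : IsClosedImmersion (pullback.fst u o).left :=
    MorphismProperty.of_isPullback (P := @IsClosedImmersion) hsq.flip ‹_›
  haveI : IsAffine (pullback u o).left := isAffine_of_isAffineHom (pullback.fst u o).left
  haveI : IsAffine K.left := IsAffine.of_isIso iso.hom.left
  haveI : Mono iK := by
    haveI : Mono (η[G'] : 𝟙_ (Over (Spec (CommRingCat.of k'))) ⟶ G') := ⟨fun a b _ => toUnit_unique a b⟩
    exact hK.mono_fst_of_mono
  have hiK : iK ≫ e R (𝟙 R) = 1 := by rw [Hom.one_def]; exact hK'.w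
  have hN : ∃ p m : ℕ, ExpChar k p ∧ (𝟙 K) ^ p ^ m = 1 := by
    letI : Algebra k' Γ(K.left, ⊤) := (AffPts.strMap K).toAlgebra
    letI : Algebra k Γ(K.left, ⊤) := ((AffPts.strMap K).comp (algebraMap k k')).toAlgebra
    haveI : IsScalarTower k k' Γ(K.left, ⊤) := IsScalarTower.of_algebraMap_eq fun _ => rfl
    let j : Kernel.spC k' Γ(K.left, ⊤) ⟶ K := AffPts.mkPt (RingHom.id _) (RingHom.id_comp _)
    haveI : IsIso j.left := by
      change IsIso (Spec.map (CommRingCat.ofHom (RingHom.id Γ(K.left, ⊤))) ≫ K.left.isoSpec.inv)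
      rw [CommRingCat.ofHom_id, Spec.map_id, Category.id_comp]; infer_instance
    haveI : Epi j.left := inferInstance
    haveI : Epi j := Over.epi_of_epi_left j
    have hx : (j ≫ iK) ≫ e R (𝟙 R) = 1 := by rw [Category.assoc, hiK, MonObj.comp_one]
    have fin : ∀ N : ℕ, (j ≫ iK) ^ N = 1 → (𝟙 K) ^ N = 1 := fun N h => by
      rw [← cancel_mono iK, ← cancel_epi j, MonObj.pow_comp, MonObj.one_comp, MonObj.comp_one, MonObj.comp_pow,
        Category.id_comp]
      exact h
    obtain ⟨p, hp⟩ : ∃ p, ExpChar k p := ⟨ringExpChar k, inferInstance⟩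
    cases hp with
    | zero =>
      exact ⟨1, 0, inferInstance, fin _ (by
        rw [pow_zero, pow_one]
        exact KernelGen.eq_one_of_surjective jU o ho e he hmul
          (IsPurelyInseparable.surjective_algebraMap_of_isSeparable k k') _ hx)⟩
    | prime hprime =>
      obtain ⟨m, hm⟩ := KernelGen.exists_pow_eq_one jU o ho e he hmul p (CharP.cast_eq_zero k p) _ hx
      exact ⟨p, m, ExpChar.prime hprime, fin _ hm⟩
  haveI hlU : LocallyOfFiniteType U.hom := inferInstanceAs (LocallyOfFiniteType (V.ι ≫ G'.hom))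
  haveI : LocallyOfFiniteType (Spec.map β) := by rw [hβ]; infer_instance
  have hβft : β.hom.FiniteType := (HasRingHomProperty.Spec_iff (P := @LocallyOfFiniteType)).mp ‹_›
  haveI : Algebra.FinitePresentation k P := AlgFinite.finitePresentation _ (by
    letI := β.hom.toAlgebra
    haveI : Algebra.FiniteType k' Γ(U.left, ⊤) := hβft
    exact Algebra.FinitePresentation.of_finiteType.mp inferInstance) hP
  haveI : LocallyOfFiniteType (Counit.wObj k P).hom := by
    haveI : LocallyOfFiniteType (Spec.map (CommRingCat.ofHom (algebraMap k P))) := by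
      rw [HasRingHomProperty.Spec_iff (P := @LocallyOfFiniteType)]
      exact RingHom.finiteType_algebraMap.mpr inferInstance
    exact inferInstanceAs (LocallyOfFiniteType (Spec.map (CommRingCat.ofHom (algebraMap k P)) ≫ 𝟙 _))
  haveI : LocallyOfFiniteType ((Over.pullback f).obj (Counit.wObj k P)).hom :=
    inferInstanceAs (LocallyOfFiniteType (pullback.snd (Counit.wObj k P).hom f))
  refine ⟨inferInstance, ?_, hN⟩
  rw [← Over.w iso.hom, ← Over.w (pullback.fst u o)]
  infer_instance

/-- The kernel of the counit of a purely inseparable Weil restriction is affine, of finite type and of finite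
exponent. -/
theorem affine_finiteType_pow {k k' : Type u} [Field k] [Field k']
    [Algebra k k'] [Module.Finite k k'] [IsPurelyInseparable k k']
    (G' : Over (Spec (CommRingCat.of k'))) [GrpObj G'] [LocallyOfFiniteType G'.hom]
    (R : Over (Spec (CommRingCat.of k))) [GrpObj R] (q : Red.bc (Spec.map (CommRingCat.ofHom (algebraMap k k'))) R ⟶ G') [IsMonHom q]
    (hR : WeilRes.IsWeilRes (Spec.map (CommRingCat.ofHom (algebraMap k k'))) G' R q)
    (K : Over (Spec (CommRingCat.of k'))) [GrpObj K] (iK : K ⟶ Red.bc (Spec.map (CommRingCat.ofHom (algebraMap k k'))) R) [IsMonHom iK]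
    (hK : AlgGrp.IsKernel iK q) :
    IsAffine K.left ∧ LocallyOfFiniteType K.hom ∧ ∃ N : ℕ, 0 < N ∧ (𝟙 K) ^ N = 1 := by
  obtain ⟨h1, h2, p, m, hp, h⟩ := affine_finiteType_expChar_pow G' R q hR K iK hK
  exact ⟨h1, h2, p ^ m, pow_pos (expChar_pos k p) m, h⟩

end Groth.Agent.Lib.WeilRep.CounitKernel
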