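import Groth.Agent.Lib.WeilRep.AffPts
import Mathlib.RingTheory.Spectrum.Prime.RingHom

/-!
# Points of group schemes in an affine neighbourhood of the unit section
-/

set_option autoImplicit false
set_option backward.isDefEq.respectTransparency false
set_option linter.style.haveILetI false
set_option linter.unusedSectionVars false

noncomputable section

universe u

open CategoryTheory CategoryTheory.Limits AlgebraicGeometry MonObj CartesianMonoidalCategory MonoidalCategory
open Groth.Agent.Lib.WeilRep.AffPts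

namespace Groth.Agent.Lib.WeilRep.NearUnit

variable {R : Type u} [CommRing R] {G U : Over (Spec (CommRingCat.of R))} [GrpObj G] [IsAffine U.left]
  (j : U ⟶ G) [IsOpenImmersion j.left] (o : 𝟙_ (Over (Spec (CommRingCat.of R))) ⟶ U) (ho : o ≫ j = η[G])
  {C : Type u} [CommRing C] {s : R →+* C}

variable (s) in
/-- The unit point in the neighbourhood. -/
def one : spo s ⟶ U := toUnit _ ≫ o

include ho in
theorem one_comp : one o s ≫ j = 1 := by rw [one, Category.assoc, ho, Hom.one_def]

theorem spm_one {D : Type u} [CommRing D] {t : R →+* D} (h : C →+* D) (hh : h.comp s = t) :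
    spm h hh ≫ one o s = one o t := by
  rw [one, one, ← Category.assoc, comp_toUnit]

theorem ringOf_one {D : Type u} [CommRing D] {t : R →+* D} (h : C →+* D) (hh : h.comp s = t) :
    h.comp (ringOf (one o s)) = ringOf (one o t) := by
  rw [← ringOf_comp h hh, spm_one]

theorem mono_of_isOpenImmersion : Mono j := Over.mono_of_mono_left j

theorem comap_surjective {C D : Type u} [CommRing C] [CommRing D] (h : C →+* D) (hs : Function.Surjective h)
    (hn : ∀ x, h x = 0 → IsNilpotent x) : Function.Surjective (PrimeSpectrum.comap h) := fun P => by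
  have : P ∈ Set.range (PrimeSpectrum.comap h) := by
    rw [range_comap_of_surjective _ h hs]
    exact fun x hx => (hn x hx).elim fun n hn' => P.2.mem_of_pow_mem n (hn'.symm ▸ P.asIdeal.zero_mem)
  exact this

/-- A point whose restriction along a nilpotent thickening lies near the unit lies near the unit. -/
theorem exists_lift_of_restrict {D : Type u} [CommRing D] {t : R →+* D} (h : C →+* D) (hh : h.comp s = t)
    (hs : Function.Surjective h) (hn : ∀ x, h x = 0 → IsNilpotent x) (w : spo s ⟶ G) (v : spo t ⟶ U)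
    (hv : spm h hh ≫ w = v ≫ j) : ∃ w' : spo s ⟶ U, w' ≫ j = w := by
  have hr : Set.range w.left ⊆ Set.range j.left := by
    rintro _ ⟨y, rfl⟩
    obtain ⟨z, rfl⟩ := comap_surjective h hs hn y
    exact ⟨v.left z, congrArg (fun m => m.left.base z) hv.symm⟩
  refine ⟨Over.homMk (IsOpenImmersion.lift j.left w.left hr) ?_, Over.OverMorphism.ext (IsOpenImmersion.lift_fac _ _ _)⟩
  rw [← Over.w j, IsOpenImmersion.lift_fac_assoc, Over.w]

include ho in
/-- The product of two points congruent to the identity modulo a square zero ideal. -/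
theorem exists_mul (J : Ideal C) (hJ : J * J = ⊥) (w₁ w₂ : spo s ⟶ U)
    (h₁ : ∀ a, ringOf w₁ a - ringOf (one o s) a ∈ J) (h₂ : ∀ a, ringOf w₂ a - ringOf (one o s) a ∈ J) :
    ∃ w₃ : spo s ⟶ U, w₃ ≫ j = (w₁ ≫ j) * (w₂ ≫ j) ∧
      ∀ a, ringOf w₃ a = ringOf w₁ a + ringOf w₂ a - ringOf (one o s) a := by
  haveI := mono_of_isOpenImmersion j
  let f₁ := ringOf (one o s)
  have hmul : ∀ {x y : C}, x ∈ J → y ∈ J → x * y = 0 := fun hx hy => by
    simpa [hJ] using Ideal.mul_mem_mul hx hy
  let E : Subring (C × C × C) :=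
    { carrier := {t | t.2.1 - t.1 ∈ J ∧ t.2.2 - t.1 ∈ J}
      mul_mem' := fun {x y} hx hy => by
        constructor <;> simp only [Prod.snd_mul, Prod.fst_mul]
        · rw [show x.2.1 * y.2.1 - x.1 * y.1 = x.2.1 * (y.2.1 - y.1) + y.1 * (x.2.1 - x.1) by ring]
          exact add_mem (J.mul_mem_left _ hy.1) (J.mul_mem_left _ hx.1)
        · rw [show x.2.2 * y.2.2 - x.1 * y.1 = x.2.2 * (y.2.2 - y.1) + y.1 * (x.2.2 - x.1) by ring]
          exact add_mem (J.mul_mem_left _ hy.2) (J.mul_mem_left _ hx.2)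
      one_mem' := by simp
      add_mem' := fun {x y} hx hy => by
        constructor <;> simp only [Prod.snd_add, Prod.fst_add]
        · rw [add_sub_add_comm]; exact add_mem hx.1 hy.1
        · rw [add_sub_add_comm]; exact add_mem hx.2 hy.2
      zero_mem' := by simp
      neg_mem' := fun {x} hx => by
        constructor <;> simp only [Prod.snd_neg, Prod.fst_neg]
        · rw [← neg_sub']; exact J.neg_mem hx.1
        · rw [← neg_sub']; exact J.neg_mem hx.2 }
  let dg : C →+* E := ((RingHom.id C).prod ((RingHom.id C).prod (RingHom.id C))).codRestrict E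
    fun c => ⟨by simp, by simp⟩
  let p₀ : E →+* C := (RingHom.fst C (C × C)).comp E.subtype
  let p₁ : E →+* C := ((RingHom.fst C C).comp (RingHom.snd C (C × C))).comp E.subtype
  let p₂ : E →+* C := ((RingHom.snd C C).comp (RingHom.snd C (C × C))).comp E.subtype
  let θ : E →+* C :=
    { toFun := fun t => t.1.2.1 + t.1.2.2 - t.1.1
      map_one' := by simp
      map_zero' := by simp
      map_add' := fun x y => by simp only [Subring.coe_add, Prod.snd_add, Prod.fst_add]; ring
      map_mul' := fun x y => by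
        simp only [Subring.coe_mul, Prod.snd_mul, Prod.fst_mul]
        linear_combination -hmul x.2.1 y.2.2 - hmul x.2.2 y.2.1 }
  let sE : R →+* E := dg.comp s
  have q₀ : p₀.comp sE = s := rfl
  have q₁ : p₁.comp sE = s := rfl
  have q₂ : p₂.comp sE = s := rfl
  have qθ : θ.comp sE = s := RingHom.ext fun r => add_sub_cancel_right (s r) (s r)
  let φ₁ : Γ(U.left, ⊤) →+* E := (f₁.prod ((ringOf w₁).prod f₁)).codRestrict E fun a => ⟨h₁ a, by simp⟩
  let φ₂ : Γ(U.left, ⊤) →+* E := (f₁.prod (f₁.prod (ringOf w₂))).codRestrict E fun a => ⟨by simp, h₂ a⟩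
  have hφ₁ : φ₁.comp (strMap U) = sE := RingHom.ext fun r => Subtype.ext (Prod.ext
    (RingHom.congr_fun (ringOf_strMap (one o s)) r) (Prod.ext (RingHom.congr_fun (ringOf_strMap w₁) r)
      (RingHom.congr_fun (ringOf_strMap (one o s)) r)))
  have hφ₂ : φ₂.comp (strMap U) = sE := RingHom.ext fun r => Subtype.ext (Prod.ext
    (RingHom.congr_fun (ringOf_strMap (one o s)) r) (Prod.ext (RingHom.congr_fun (ringOf_strMap (one o s)) r)
      (RingHom.congr_fun (ringOf_strMap w₂) r)))
  let π : spo sE ⟶ G := (mkPt φ₁ hφ₁ ≫ j) * (mkPt φ₂ hφ₂ ≫ j)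
  have key : ∀ (p : E →+* C) (hp : p.comp sE = s) (u₁ u₂ : spo s ⟶ U),
      p.comp φ₁ = ringOf u₁ → p.comp φ₂ = ringOf u₂ → spm p hp ≫ π = (u₁ ≫ j) * (u₂ ≫ j) := by
    intro p hp u₁ u₂ e₁ e₂
    rw [MonObj.comp_mul, ← Category.assoc, ← Category.assoc]
    congr 2 <;> apply ringOf_injective <;> rw [ringOf_comp, ringOf_mkPt] <;> assumption
  have k₀ := key p₀ q₀ (one o s) (one o s) rfl rfl
  have k₁ := key p₁ q₁ w₁ (one o s) rfl rfl
  have k₂ := key p₂ q₂ (one o s) w₂ rfl rfl
  have kθ := key θ qθ w₁ w₂ (RingHom.ext fun a => add_sub_cancel_right (ringOf w₁ a) (f₁ a))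
    (RingHom.ext fun a => add_sub_cancel_left (f₁ a) (ringOf w₂ a))
  rw [one_comp j o ho, _root_.mul_one] at k₀ k₁
  rw [one_comp j o ho, _root_.one_mul] at k₂
  obtain ⟨v, hv⟩ := exists_lift_of_restrict j p₀ q₀ (fun c => ⟨dg c, rfl⟩) (fun x hx => ⟨2, by
    have hx' : x.1.1 = 0 := hx
    refine Subtype.ext (Prod.ext ?_ (Prod.ext ?_ ?_)) <;> simp only [SubmonoidClass.coe_pow, Prod.pow_fst, Prod.pow_snd]
    · simp [hx']
    · rw [sq]; exact hmul (by simpa [hx'] using x.2.1) (by simpa [hx'] using x.2.1)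
    · rw [sq]; exact hmul (by simpa [hx'] using x.2.2) (by simpa [hx'] using x.2.2)⟩) π (one o s)
    (k₀.trans (one_comp j o ho).symm)
  refine ⟨spm θ qθ ≫ v, by rw [Category.assoc, hv, kθ], fun a => ?_⟩
  have e₀ : p₀.comp (ringOf v) = f₁ := by
    rw [← ringOf_comp p₀ q₀]; congr 1
    rw [← cancel_mono j, Category.assoc, hv, k₀, one_comp j o ho]
  have e₁ : p₁.comp (ringOf v) = ringOf w₁ := by
    rw [← ringOf_comp p₁ q₁]; congr 1
    rw [← cancel_mono j, Category.assoc, hv, k₁]
  have e₂ : p₂.comp (ringOf v) = ringOf w₂ := by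
    rw [← ringOf_comp p₂ q₂]; congr 1
    rw [← cancel_mono j, Category.assoc, hv, k₂]
  rw [ringOf_comp]
  change (ringOf v a).1.2.1 + (ringOf v a).1.2.2 - (ringOf v a).1.1 = _
  rw [show (ringOf v a).1.1 = _ from RingHom.congr_fun e₀ a, show (ringOf v a).1.2.1 = _ from RingHom.congr_fun e₁ a,
    show (ringOf v a).1.2.2 = _ from RingHom.congr_fun e₂ a]

include ho in
theorem pow_eq_one_of_sq_zero (J : Ideal C) (hJ : J * J = ⊥) (p : ℕ) (hp : (p : C) = 0) (w : spo s ⟶ U)
    (h : ∀ a, ringOf w a - ringOf (one o s) a ∈ J) : (w ≫ j) ^ p = 1 := by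
  have key : ∀ n : ℕ, ∃ v : spo s ⟶ U, v ≫ j = (w ≫ j) ^ n ∧
      ∀ a, ringOf v a = ringOf (one o s) a + n • (ringOf w a - ringOf (one o s) a) := by
    intro n
    induction n with
    | zero => exact ⟨one o s, by rw [pow_zero, one_comp j o ho], fun a => by simp⟩
    | succ n ih =>
      obtain ⟨v, hv, hv'⟩ := ih
      obtain ⟨v₃, h₃, h₃'⟩ := exists_mul j o ho J hJ v w
        (fun b => by rw [hv' b, add_sub_cancel_left]; exact nsmul_mem (h b) n) h
      refine ⟨v₃, by rw [h₃, hv, pow_succ], fun a => ?_⟩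
      rw [h₃', hv', succ_nsmul]
      ring
  obtain ⟨v, hv, hv'⟩ := key p
  rw [← hv, ← one_comp j o ho]
  congr 1
  refine ringOf_injective (RingHom.ext fun a => ?_)
  rw [hv', nsmul_eq_mul, hp, zero_mul, add_zero]

include ho in
theorem pow_eq_one_of_mem_pow (I : Ideal C) (hI₀ : I ≤ nilradical C) (p : ℕ) (hp : (p : C) = 0) (m : ℕ) :
    ∀ (i : ℕ), 1 ≤ i → I ^ (i + m) = ⊥ → ∀ w : spo s ⟶ U,
      (∀ a, ringOf w a - ringOf (one o s) a ∈ I ^ i) → (w ≫ j) ^ (p ^ m) = 1 := by
  haveI := mono_of_isOpenImmersion j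
  induction m with
  | zero =>
    intro i _ hI w h
    rw [pow_zero, pow_one, ← one_comp j o ho]
    congr 1
    exact ringOf_injective (RingHom.ext fun a => sub_eq_zero.1 (by
      have := h a
      rw [Nat.add_zero] at hI
      rwa [hI, Ideal.mem_bot] at this))
  | succ m ih =>
    intro i hi hI w h
    rw [pow_succ', pow_mul]
    let π := Ideal.Quotient.mk (I ^ (i + 1))
    have h' := pow_eq_one_of_sq_zero j o ho (C := C ⧸ I ^ (i + 1)) (s := π.comp s) ((I ^ i).map π) (by
        rw [← Ideal.map_mul, ← pow_add, Ideal.map_eq_bot_iff_le_ker, Ideal.mk_ker]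
        exact Ideal.pow_le_pow_right (by omega)) p (by rw [← map_natCast π, hp, map_zero])
      (spm π rfl ≫ w) fun b => by
        rw [ringOf_comp, ← ringOf_one o π rfl, RingHom.comp_apply, RingHom.comp_apply, ← map_sub]
        exact Ideal.mem_map_of_mem _ (h b)
    rw [Category.assoc, ← MonObj.comp_pow] at h'
    obtain ⟨w', hw'⟩ := exists_lift_of_restrict j π rfl Ideal.Quotient.mk_surjective
      (fun x hx => mem_nilradical.1 (hI₀ (Ideal.pow_le_self (by omega) (Ideal.Quotient.eq_zero_iff_mem.1 hx))))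
      ((w ≫ j) ^ p) (one o (π.comp s)) (h'.trans (one_comp j o ho).symm)
    rw [← hw']
    refine ih (i + 1) (Nat.le_add_left 1 i) (by rwa [add_assoc, add_comm 1 m]) w' fun a => ?_
    have h'' : spm π rfl ≫ w' = spm π rfl ≫ one o s := by
      rw [← cancel_mono j, Category.assoc, Category.assoc, hw', h', one_comp j o ho, MonObj.comp_one]
    have h3 := RingHom.congr_fun (congrArg ringOf h'') a
    rw [ringOf_comp, ringOf_comp] at h3
    exact Ideal.Quotient.eq.1 h3

end Groth.Agent.Lib.WeilRep.NearUnit
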