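import Groth.Agent.Lib.WeilRep.Kernel
import Groth.Agent.Lib.WeilRep.NearUnit
import Groth.Agent.Lib.WeilRep.Counit
import Mathlib.AlgebraicGeometry.Morphisms.UniversallyInjective

/-!
# The kernel of the counit of a purely inseparable Weil restriction of a group scheme
-/

set_option autoImplicit false
set_option backward.isDefEq.respectTransparency false
set_option backward.isDefEq.respectTransparency.types false
set_option linter.style.haveILetI false
set_option linter.unusedSectionVars false
set_option synthInstance.maxHeartbeats 200000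

noncomputable section

universe u

open CategoryTheory CategoryTheory.Limits AlgebraicGeometry MonObj CartesianMonoidalCategory MonoidalCategory
open Groth.Agent.Lib.RedPts Groth.Agent.Lib.WeilRep.AffPts Groth.Agent.Lib.WeilRep.Kernel
open scoped TensorProduct

namespace Groth.Agent.Lib.WeilRep.KernelGen

variable {k k' : Type u} [Field k] [Field k'] [Algebra k k'] [Module.Finite k k'] [IsPurelyInseparable k k']

theorem ker_mult_le_nilradical (C : Type u) [CommRing C] [Algebra k C] [Algebra k' C] [IsScalarTower k k' C] :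
    RingHom.ker (mult k k' C) ≤ nilradical (C ⊗[k] k') := fun x hx => by
  obtain ⟨m, hm⟩ := exists_pow_ker_mult k k' C
  exact mem_nilradical.2 ⟨1 + m, by
    have := Ideal.pow_mem_pow hx (1 + m)
    rwa [hm, Ideal.mem_bot] at this⟩

theorem universallyInjective_sf : UniversallyInjective (sf k k') := by
  have hs : Surjective (Spec.map (CommRingCat.ofHom (Algebra.TensorProduct.lmul' k : k' ⊗[k] k' →ₐ[k] k').toRingHom)) := by
    refine ⟨NearUnit.comap_surjective _ (fun c => ⟨c ⊗ₜ 1, by simp⟩) fun x hx => ?_⟩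
    have e : mult k k' k' = (Algebra.TensorProduct.lmul' k : k' ⊗[k] k' →ₐ[k] k') :=
      Algebra.TensorProduct.ext' fun a b => by simp [mult_tmul]
    exact mem_nilradical.1 (ker_mult_le_nilradical k' (RingHom.mem_ker.2 ((AlgHom.congr_fun e x).trans hx)))
  rw [UniversallyInjective.iff_diagonal, diagonal_SpecMap]
  infer_instance

/-- The diagonal of a scheme over `k'` is surjective onto its base change. -/
theorem unit_surjective (T : Over (Spec (CommRingCat.of k'))) :
    Function.Surjective (BC.up (sf k k') (𝟙 ((Over.map (sf k k')).obj T))).left := by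
  haveI := universallyInjective_sf (k := k) (k' := k')
  let d := (BC.up (sf k k') (𝟙 ((Over.map (sf k k')).obj T))).left
  have hd : d ≫ pullback.fst ((Over.map (sf k k')).obj T).hom (sf k k') = 𝟙 _ := by
    rw [← BC.down_left, BC.down_up]; rfl
  haveI : UniversallyInjective (pullback.fst ((Over.map (sf k k')).obj T).hom (sf k k')) :=
    MorphismProperty.pullback_fst _ _ inferInstance
  intro y
  refine ⟨pullback.fst ((Over.map (sf k k')).obj T).hom (sf k k') y,
    (pullback.fst ((Over.map (sf k k')).obj T).hom (sf k k')).injective ?_⟩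
  exact congrArg (fun m => m.base (pullback.fst ((Over.map (sf k k')).obj T).hom (sf k k') y)) hd

variable {G' U : Over (Spec (CommRingCat.of k'))} [GrpObj G'] {G : Over (Spec (CommRingCat.of k))} [GrpObj G]
  (j : U ⟶ G') [IsOpenImmersion j.left] (o : 𝟙_ (Over (Spec (CommRingCat.of k'))) ⟶ U) (ho : o ≫ j = η[G'])
  (e : ∀ Y : Over (Spec (CommRingCat.of k)), (Y ⟶ G) ≃ ((Over.pullback (sf k k')).obj Y ⟶ G'))
  (he : ∀ (Y Z : Over (Spec (CommRingCat.of k))) (h : Y ⟶ Z) (g : Z ⟶ G),
    e Y (h ≫ g) = (Over.pullback (sf k k')).map h ≫ e Z g)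
  (hmul : ∀ (Y : Over (Spec (CommRingCat.of k))) (g h : Y ⟶ G), e Y (g * h) = e Y g * e Y h)

include he in
theorem unit_e {T : Over (Spec (CommRingCat.of k'))} (g : (Over.map (sf k k')).obj T ⟶ G) :
    BC.up (sf k k') (𝟙 _) ≫ e _ g = BC.up (sf k k') g ≫ e G (𝟙 G) := by
  conv_lhs => rw [← Category.comp_id g, he, ← Category.assoc]
  refine congrArg (· ≫ e G (𝟙 G)) ?_
  exact ((Over.mapPullbackAdj (sf k k')).homEquiv_naturality_right _ g).symm.trans (by rw [Category.id_comp]; rfl)

include he ho in
/-- A kernel point lands in the neighbourhood of the unit. -/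
theorem exists_factor {T : Over (Spec (CommRingCat.of k'))} (x : T ⟶ Red.bc (sf k k') G)
    (hx : x ≫ e G (𝟙 G) = 1) :
    ∃ a : (Over.pullback (sf k k')).obj ((Over.map (sf k k')).obj T) ⟶ U,
      a ≫ j = e _ (BC.down (sf k k') x) := by
  let z := e _ (BC.down (sf k k') x)
  have hz : BC.up (sf k k') (𝟙 _) ≫ z = (toUnit T ≫ o) ≫ j := by
    rw [unit_e e he, BC.up_down, hx, Category.assoc, ho, Hom.one_def]
  have hr : Set.range z.left ⊆ Set.range j.left := by
    rintro _ ⟨y, rfl⟩
    obtain ⟨w, rfl⟩ := unit_surjective T y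
    exact ⟨(toUnit T ≫ o).left w, congrArg (fun m => m.left.base w) hz.symm⟩
  refine ⟨Over.homMk (IsOpenImmersion.lift j.left z.left hr) ?_, Over.OverMorphism.ext (IsOpenImmersion.lift_fac _ _ _)⟩
  rw [← Over.w j, IsOpenImmersion.lift_fac_assoc, Over.w]

section affine

variable [IsAffine U.left]

include he ho in
/-- The kernel of the counit only depends on an affine neighbourhood of the unit. -/
theorem exists_iso_kernel {K : Over (Spec (CommRingCat.of k'))} [GrpObj K] (iK : K ⟶ Red.bc (sf k k') G)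
    (hK : AlgGrp.IsKernel iK (e G (𝟙 G))) {W : Over (Spec (CommRingCat.of k))} [IsAffine W.left]
    (u : (Over.pullback (sf k k')).obj W ⟶ U)
    (hu : ∀ T : Over (Spec (CommRingCat.of k)),
      Function.Bijective fun g : T ⟶ W => (Over.pullback (sf k k')).map g ≫ u) :
    Nonempty (K ≅ pullback u o) := by
  haveI : Mono j := Over.mono_of_mono_left j
  haveI : Mono iK := by
    haveI : Mono (η[G'] : 𝟙_ (Over (Spec (CommRingCat.of k'))) ⟶ G') :=
      ⟨fun a b _ => toUnit_unique a b⟩
    exact hK.mono_fst_of_mono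
  have hiK : iK ≫ e G (𝟙 G) = 1 := by rw [Hom.one_def]; exact hK.w
  obtain ⟨a, ha⟩ := exists_factor j o ho e he iK hiK
  obtain ⟨g, hg⟩ := (hu _).2 a
  change (Over.pullback (sf k k')).map g ≫ u = a at hg
  have hy : BC.up (sf k k') g ≫ u = toUnit K ≫ o := by
    rw [← cancel_mono j, Category.assoc, Category.assoc, ho]
    have h1 : BC.up (sf k k') g = BC.up (sf k k') (𝟙 _) ≫ (Over.pullback (sf k k')).map g :=
      (by rw [Category.id_comp] : BC.up (sf k k') g = BC.up (sf k k') (𝟙 _ ≫ g)).trans
        ((Over.mapPullbackAdj (sf k k')).homEquiv_naturality_right _ g)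
    rw [h1, Category.assoc, reassoc_of% hg, ha, unit_e e he, BC.up_down, hiK, Hom.one_def]
  let g₀ := (e W).symm (u ≫ j)
  have hc : (Over.pullback (sf k k')).map g₀ ≫ e G (𝟙 G) = u ≫ j := by
    rw [← he, Category.comp_id, Equiv.apply_symm_apply]
  let ψ : pullback u o ⟶ K := hK.lift (pullback.fst u o ≫ (Over.pullback (sf k k')).map g₀) (toUnit _) (by
    rw [Category.assoc, hc, pullback.condition_assoc, ho]
    exact congrArg (· ≫ η[G']) (toUnit_unique _ _))
  have hψ : ψ ≫ iK = pullback.fst u o ≫ (Over.pullback (sf k k')).map g₀ := hK.lift_fst _ _ _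
  let φ : K ⟶ pullback u o := pullback.lift (BC.up (sf k k') g) (toUnit K) hy
  refine ⟨⟨φ, ψ, ?_, pullback.hom_ext ?_ (toUnit_unique _ _)⟩⟩
  · rw [← cancel_mono iK, Category.assoc, hψ, Category.id_comp, pullback.lift_fst_assoc]
    refine BC.down_injective ((e _).injective ?_)
    rw [BC.down_map, BC.down_up, he, Equiv.apply_symm_apply, reassoc_of% hg, ha]
  · rw [Category.assoc, pullback.lift_fst, Category.id_comp]
    refine BC.down_injective ((hu _).1 ?_)
    change (Over.pullback (sf k k')).map _ ≫ u = (Over.pullback (sf k k')).map _ ≫ u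
    rw [BC.down_comp, BC.down_up, Functor.map_comp, Category.assoc, hg, ← cancel_mono j, Category.assoc, Category.assoc,
      ha, ← he, ← BC.down_comp, hψ, BC.down_map, he, Equiv.apply_symm_apply]

section points

variable {C : Type u} [CommRing C] [Algebra k C] [Algebra k' C] [IsScalarTower k k' C]

include he ho in
theorem exists_near (x : spC k' C ⟶ Red.bc (sf k k') G) (hx : x ≫ e G (𝟙 G) = 1) :
    ∃ v : pC k k' C ⟶ U, v ≫ j = toPts C e (BC.down (sf k k') x) ∧
      ∀ a, ringOf v a - ringOf (NearUnit.one o (Algebra.TensorProduct.includeRight (R := k) (A := C) (B := k')).toRingHom) a ∈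
        RingHom.ker (mult k k' C) := by
  haveI : Mono j := Over.mono_of_mono_left j
  obtain ⟨a, ha⟩ := exists_factor j o ho e he x hx
  refine ⟨(theta k k' C).hom ≫ a, by rw [Category.assoc, ha]; rfl, fun b => ?_⟩
  have h1 : diag k k' C ≫ ((theta k k' C).hom ≫ a) = diag k k' C ≫ NearUnit.one o _ := by
    rw [← cancel_mono j, Category.assoc, Category.assoc, Category.assoc, ha, NearUnit.one_comp j o ho, MonObj.comp_one]
    exact (diag_toPts e he (BC.down (sf k k') x)).trans (by rw [BC.up_down, hx])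
  have h2 := RingHom.congr_fun (congrArg ringOf h1) b
  rw [show Kernel.diag k k' C = spm (mult k k' C).toRingHom (mult_comp_include k k' C) from rfl, ringOf_comp,
    ringOf_comp] at h2
  rw [RingHom.mem_ker, map_sub, sub_eq_zero]
  exact h2

include he hmul ho in
/-- Points of the kernel of the counit are killed by a power of the characteristic. -/
theorem exists_pow_eq_one (p : ℕ) (hp : (p : k) = 0)
    (x : spC k' C ⟶ Red.bc (sf k k') G) (hx : x ≫ e G (𝟙 G) = 1) : ∃ m : ℕ, x ^ (p ^ m) = 1 := by
  obtain ⟨m, hm⟩ := exists_pow_ker_mult k k' C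
  obtain ⟨v, hv, hv'⟩ := exists_near j o ho e he x hx
  refine ⟨m, BC.down_injective ((toPts C e).injective ?_)⟩
  rw [show BC.down (sf k k') (x ^ (p ^ m)) = BC.down (sf k k') x ^ (p ^ m) from
      map_pow (BC.downMulEquiv (sf k k') _ G) x _,
    BC.down_one, toPts_pow e hmul, toPts_one e hmul, ← hv]
  exact NearUnit.pow_eq_one_of_mem_pow j o ho (RingHom.ker (mult k k' C)) (ker_mult_le_nilradical C) p
    (by rw [← map_natCast (algebraMap k (C ⊗[k] k')), hp, map_zero]) m 1 le_rfl hm v
    (fun a => by rw [pow_one]; exact hv' a)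

include he hmul ho in
theorem eq_one_of_surjective (hs : Function.Surjective (algebraMap k k')) (x : spC k' C ⟶ Red.bc (sf k k') G)
    (hx : x ≫ e G (𝟙 G) = 1) : x = 1 := by
  obtain ⟨v, hv, hv'⟩ := exists_near j o ho e he x hx
  refine BC.down_injective ((toPts C e).injective ?_)
  rw [BC.down_one, toPts_one e hmul, ← hv, ← NearUnit.one_comp j o ho]
  congr 1
  refine ringOf_injective (RingHom.ext fun a => ?_)
  rw [← sub_eq_zero]
  have hm : ∀ z : C ⊗[k] k', z = mult k k' C z ⊗ₜ 1 := fun z => by
    induction z using TensorProduct.induction_on with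
    | zero => simp
    | tmul c b =>
      obtain ⟨r, rfl⟩ := hs b
      rw [mult_tmul, ← IsScalarTower.algebraMap_apply, Algebra.algebraMap_eq_smul_one (R := k) (A := C),
        Algebra.algebraMap_eq_smul_one (R := k) (A := k'), TensorProduct.tmul_smul, mul_smul_comm, _root_.mul_one,
        TensorProduct.smul_tmul']
    | add a b ha hb => rw [map_add, TensorProduct.add_tmul, ← ha, ← hb]
  rw [hm (_ - _), RingHom.mem_ker.1 (hv' a), TensorProduct.zero_tmul]

include he hmul ho in
/-- A kernel point is joined to the identity by an affine line of kernel points. -/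
theorem exists_path [Smooth U.hom] {P : Type u} [CommRing P] [Algebra k P] [Algebra k' P] [IsScalarTower k k' P]
    (κ : C →ₐ[k'] P) (X : P) (ρ₀ ρ₁ : P →ₐ[k'] C) (h₀ : ∀ c, ρ₀ (κ c) = c)
    (h₁ : ∀ c, ρ₁ (κ c) = c) (hX₀ : ρ₀ X = 0) (hX₁ : ρ₁ X = 1)
    (x : spC k' C ⟶ Red.bc (sf k k') G) (hx : x ≫ e G (𝟙 G) = 1) :
    ∃ y : spC k' P ⟶ Red.bc (sf k k') G, y ≫ e G (𝟙 G) = 1 ∧ spr ρ₀ ≫ y = 1 ∧ spr ρ₁ ≫ y = x := by
  haveI : Mono j := Over.mono_of_mono_left j
  obtain ⟨v, hv, hv'⟩ := exists_near j o ho e he x hx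
  letI : Algebra k' Γ(U.left, ⊤) := (strMap U).toAlgebra
  have hA : Smooth (Spec.map (CommRingCat.ofHom (strMap U))) := by rw [map_strMap]; infer_instance
  rw [HasRingHomProperty.Spec_iff (P := @Smooth)] at hA
  have hA' : Algebra.Smooth k' Γ(U.left, ⊤) := hA
  haveI := hA'.formallySmooth
  letI : Algebra k' (P ⊗[k] k') :=
    (Algebra.TensorProduct.includeRight (R := k) (A := P) (B := k')).toRingHom.toAlgebra
  let Φ := (mult k k' P).toRingHom.prod ((tmap k k' ρ₀).prod (tmap k k' ρ₁))
  let f₁ := ringOf (NearUnit.one o (Algebra.TensorProduct.includeRight (R := k) (A := C) (B := k')).toRingHom)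
  let g := (κ.toRingHom.comp ((mult k k' C).toRingHom.comp f₁)).prod (f₁.prod (ringOf v))
  obtain ⟨φ, hφ⟩ := Kernel.exists_lift (A := Γ(U.left, ⊤)) Φ
    (by
      obtain ⟨m, hm⟩ := exists_pow_ker_mult k k' P
      exact ⟨1 + m, le_bot_iff.1 ((Ideal.pow_right_mono (fun w hw => congrArg Prod.fst hw) _).trans hm.le)⟩)
    g (fun a => by
      obtain ⟨y, q0, q1, q2⟩ := exists_line k k' κ X ρ₀ ρ₁ h₀ h₁ hX₀ hX₁ (f₁ a) (ringOf v a) (sub_eq_zero.1
        ((map_sub (mult k k' C) _ _).symm.trans (RingHom.mem_ker.1 (hv' a)))).symm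
      exact ⟨y, Prod.ext q0 (Prod.ext q1 q2)⟩)
    (fun b => Prod.ext
      (show κ (mult k k' C (f₁ (strMap U b))) = mult k k' P ((1 : P) ⊗ₜ b) by
        rw [show f₁ (strMap U b) = _ from RingHom.congr_fun (ringOf_strMap (NearUnit.one o _)) b, mult_include,
          mult_tmul, _root_.one_mul]
        exact κ.commutes b)
      (Prod.ext ((RingHom.congr_fun (ringOf_strMap (NearUnit.one o _)) b).trans
          (by simp [Φ, tmap, RingHom.algebraMap_toAlgebra]))
        ((RingHom.congr_fun (ringOf_strMap v) b).trans (by simp [Φ, tmap, RingHom.algebraMap_toAlgebra]))))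
  let w : pC k k' P ⟶ U := mkPt φ.toRingHom φ.comp_algebraMap
  let y := BC.up (sf k k') ((toPts P e).symm (w ≫ j))
  have hy : ∀ (c : P →ₐ[k'] C) (z : spC k' C ⟶ Red.bc (sf k k') G) (vz : pC k k' C ⟶ U),
      vz ≫ j = toPts C e (BC.down (sf k k') z) →
      (∀ a, tmap k k' c (φ a) = ringOf vz a) → spr c ≫ y = z := fun c z vz hz hvz => by
    refine BC.down_injective ((toPts C e).injective ?_)
    rw [BC.down_comp, BC.down_up, toPts_comp e he, Equiv.apply_symm_apply, ← hz, ← Category.assoc]
    congr 1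
    apply ringOf_injective
    rw [prm, ringOf_comp, ringOf_mkPt]
    exact RingHom.ext hvz
  refine ⟨y, ?_, hy ρ₀ 1 (NearUnit.one o _) ?_ fun a => congrArg (fun t => t.2.1) (hφ a),
    hy ρ₁ x v hv fun a => congrArg (fun t => t.2.2) (hφ a)⟩
  · rw [← diag_toPts e he, Equiv.apply_symm_apply, ← Category.assoc, ← NearUnit.one_comp j o ho]
    congr 1
    apply ringOf_injective
    rw [show Kernel.diag k k' P = spm (mult k k' P).toRingHom (mult_comp_include k k' P) from rfl, ringOf_comp,
      ringOf_mkPt]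
    refine RingHom.ext fun a => (congrArg Prod.fst (hφ a)).trans ?_
    change κ (((mult k k' C).toRingHom.comp (ringOf (NearUnit.one o
      (Algebra.TensorProduct.includeRight (R := k) (A := C) (B := k')).toRingHom))) a) = _
    rw [NearUnit.ringOf_one o _ (mult_comp_include k k' C)]
    exact RingHom.congr_fun (NearUnit.ringOf_one o κ.toRingHom (s := algebraMap k' C)
      (t := algebraMap k' P) κ.comp_algebraMap) a
  · rw [BC.down_one, toPts_one e hmul, NearUnit.one_comp j o ho]

end points

end affine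

end Groth.Agent.Lib.WeilRep.KernelGen
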