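import Groth.Prelude.Def_AlgGrp
import Groth.Prelude.Def_Red
import Mathlib.AlgebraicGeometry.Morphisms.FlatMono
import Mathlib.AlgebraicGeometry.PullbackCarrier
import Mathlib.AlgebraicGeometry.Noetherian

/-!
# Flat surjective homomorphisms with quasi-compact kernel are quasi-compact
-/

set_option autoImplicit false
set_option linter.style.haveILetI false
set_option backward.isDefEq.respectTransparency false
set_option backward.isDefEq.respectTransparency.types false
set_option synthInstance.maxHeartbeats 200000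

noncomputable section

universe u

open CategoryTheory CategoryTheory.Limits AlgebraicGeometry MonoidalCategory CartesianMonoidalCategory MonObj
open TopologicalSpace

namespace Groth.Agent.Lib.WeilRep.QcKernel

variable {S : Scheme.{u}} {G Q N : Over S} [GrpObj G] [GrpObj Q] (q : G ⟶ Q) [IsMonHom q] (iN : N ⟶ G)
  (hN : AlgGrp.IsKernel iN q)

include hN in
theorem quasiCompact_of_kernel [QuasiCompact N.hom] (ho : IsOpenMap q.left) [Surjective q.left] :
    QuasiCompact q.left := by
  refine ⟨fun V hVo hVc => ?_⟩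
  have hcov : ∀ v : V, ∃ U : G.left.Opens, IsAffineOpen U ∧ (U : Set G.left) ⊆ q.left ⁻¹' V ∧ (v : Q.left) ∈ q.left '' U := by
    rintro ⟨v, hv⟩
    obtain ⟨y, hy⟩ := q.left.surjective v
    obtain ⟨U, hU, hyU, hUV⟩ := exists_isAffineOpen_mem_and_subset (X := G.left) (x := y)
      (U := q.left ⁻¹ᵁ ⟨V, hVo⟩) (show q.left y ∈ V from hy.symm ▸ hv)
    exact ⟨U, hU, hUV, y, hyU, hy⟩
  choose U hU hUV hvU using hcov
  obtain ⟨t, ht⟩ := hVc.elim_finite_subcover (fun v => q.left '' (U v : Set G.left))
    (fun v => ho _ (U v).2) (fun v hv => Set.mem_iUnion.2 ⟨⟨v, hv⟩, hvU ⟨v, hv⟩⟩)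
  let B : Set G.left := ⋃ v ∈ t, (U v : Set G.left)
  have hB : IsCompact B := t.finite_toSet.isCompact_biUnion fun v _ => (hU v).isCompact
  have hBo : IsOpen B := isOpen_biUnion fun v _ => (U v).2
  let p : (G ⊗ N).left ⟶ G.left := (fst G N).left
  haveI : QuasiCompact p := inferInstanceAs (QuasiCompact (pullback.fst G.hom N.hom))
  let m : G ⊗ N ⟶ G := fst G N * (snd G N ≫ iN)
  have hmq : m ≫ q = fst G N ≫ q := by
    rw [MonObj.mul_comp, Category.assoc, hN.w, ← Category.assoc, comp_toUnit, ← Hom.one_def, _root_.mul_one]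
  suffices q.left ⁻¹' V = m.left '' (p ⁻¹' B) by
    rw [this]
    exact (p.isCompact_preimage (U := ⟨B, hBo⟩) hB).image m.left.continuous
  refine subset_antisymm (fun y hy => ?_) ?_
  · obtain ⟨v, hv, u, hu, huv⟩ := Set.mem_iUnion₂.1 (ht hy)
    let P : Over S := Over.mk (pullback.fst q.left q.left ≫ G.hom)
    let a : P ⟶ G := Over.homMk (pullback.fst q.left q.left) rfl
    let b : P ⟶ G := Over.homMk (pullback.snd q.left q.left) (by
      change pullback.snd q.left q.left ≫ G.hom = pullback.fst q.left q.left ≫ G.hom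
      rw [← Over.w q, ← pullback.condition_assoc])
    have hab : a ≫ q = b ≫ q := Over.OverMorphism.ext pullback.condition
    let n : P ⟶ N := hN.lift (b⁻¹ * a) (toUnit _) (by
      rw [MonObj.mul_comp, GrpObj.inv_comp, hab, inv_mul_cancel, Hom.one_def])
    have hn : n ≫ iN = b⁻¹ * a := hN.lift_fst _ _ _
    obtain ⟨z, hz₁, hz₂⟩ := Scheme.Pullback.exists_preimage_pullback (f := q.left) (g := q.left) y u huv.symm
    refine ⟨(lift b n).left z, ?_, ?_⟩
    · change p ((lift b n).left z) ∈ B
      have h1 : (lift b n).left ≫ p = b.left := congrArg CommaMorphism.left (lift_fst b n)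
      rw [← Scheme.Hom.comp_apply, h1]
      exact Set.mem_iUnion₂.2 ⟨v, hv, (congrArg (· ∈ (U v : Set G.left)) hz₂).mpr hu⟩
    · have h2 : lift b n ≫ m = a := by
        rw [MonObj.comp_mul, lift_fst, lift_snd_assoc, hn, mul_inv_cancel_left]
      have h3 : (lift b n).left ≫ m.left = a.left := congrArg CommaMorphism.left h2
      rw [← Scheme.Hom.comp_apply, h3]
      exact hz₁
  · rintro _ ⟨w, hw, rfl⟩
    obtain ⟨v, -, hv⟩ := Set.mem_iUnion₂.1 hw
    have h4 : m.left ≫ q.left = p ≫ q.left := congrArg CommaMorphism.left hmq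
    rw [Set.mem_preimage, ← Scheme.Hom.comp_apply, h4]
    exact hUV v hv

end Groth.Agent.Lib.WeilRep.QcKernel
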