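import Groth.Prelude.Def_ChGrp
import Groth.Agent.Lib.WeilRep.QuotBC
import Groth.Agent.Lib.Homog.Affine
import Groth.Agent.Lib.GrpSch.Isotropy
import Groth.Agent.Lib.TorsorSch.Descent
import Groth.Agent.Lib.DescAlg.FpqcCover
import Groth.Agent.Lib.GrpQ.DomFF

/-!
# A homogeneous space of a group covering a kernel: the kernel is transitive
-/

set_option autoImplicit false
set_option backward.isDefEq.respectTransparency false
set_option linter.style.haveILetI false
set_option synthInstance.maxHeartbeats 200000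
set_option maxHeartbeats 800000

universe u

open CategoryTheory CategoryTheory.Limits AlgebraicGeometry MonoidalCategory CartesianMonoidalCategory MonObj GrpObj
open Groth.Agent.Lib Groth.Agent.Lib.RedPts Groth.Agent.Lib.ActSep.HomogX

namespace Groth.Agent.Lib.WeilRep.QuotIdent

/-- If a cover `bc H ⟶ G'` factors through a homomorphism `qR` on `bc R` with kernel `K`, the base change of a
homogeneous space of `R` by `H` is the quotient of `K` by `K ∩ bc H`. -/
theorem exists_quotient {S : Scheme.{u}} {k' : Type u} [Field k'] (f : Spec (CommRingCat.of k') ⟶ S)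
    {R H Q : Over S} [GrpObj R] [GrpObj H] (j : H ⟶ R) [IsMonHom j] [IsClosedImmersion j.left]
    (aQ : AlgGrp.Action R Q) (q₀ : 𝟙_ (Over S) ⟶ Q) (hQ : ChGrp.IsHomog Scheme.fppfPrecoverage j aQ q₀)
    {G' : Over (Spec (CommRingCat.of k'))} [GrpObj G'] (qR : Red.bc f R ⟶ G') [IsMonHom qR]
    [Flat ((Over.pullback f).map j ≫ qR).left] [Surjective ((Over.pullback f).map j ≫ qR).left]
    [QuasiCompact ((Over.pullback f).map j ≫ qR).left]
    {K : Over (Spec (CommRingCat.of k'))} [GrpObj K] (iK : K ⟶ Red.bc f R) [IsMonHom iK]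
    (hK : AlgGrp.IsKernel iK qR) [IsAffine K.left] [LocallyOfFiniteType K.hom] :
    ∃ (L : Over (Spec (CommRingCat.of k'))) (_ : GrpObj L) (iL : L ⟶ K)
      (X : Over (Spec (CommRingCat.of k'))) (a : AlgGrp.Action K X) (o : 𝟙_ (Over (Spec (CommRingCat.of k'))) ⟶ X),
      IsMonHom iL ∧ IsClosedImmersion iL.left ∧ AGF.IsQuotient iL X a o ∧ Nonempty (X ≅ Red.bc f Q) := by
  obtain ⟨-, hpb, hloc⟩ := hQ
  haveI : Mono iK := GrpQ.kernel_mono hK
  haveI : Mono j := Over.mono_of_mono_left j
  let j' : Red.bc f H ⟶ Red.bc f R := (Over.pullback f).map j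
  let π' : Red.bc f R ⟶ Red.bc f Q := (Over.pullback f).map (aQ.orbitMap q₀)
  let m : Red.bc f H ⟶ G' := j' ≫ qR
  haveI : Mono j' := ⟨fun u v huv => BC.down_injective ((cancel_mono j).1 (by
    rw [← BC.down_map, ← BC.down_map, huv]))⟩
  haveI : IsClosedImmersion j'.left :=
    MorphismProperty.of_isPullback (P := @IsClosedImmersion) (AF.isPullback_map f j).flip ‹_›
  have hjπ : j ≫ aQ.orbitMap q₀ = toUnit H ≫ q₀ := Homog.comp_orbit_of_quotient hpb
  have hmul : ∀ {T : Over (Spec (CommRingCat.of k'))} (x : T ⟶ Red.bc f R) (h : T ⟶ Red.bc f H),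
      (x * (h ≫ j')) ≫ π' = x ≫ π' := fun {T} x h => by
    refine BC.down_injective ?_
    rw [BC.down_map, BC.down_map, BC.down_mul, BC.down_map, GrpSch.mul_orbit, Category.assoc (BC.down f h), hjπ,
      ← Category.assoc, toUnit_unique (BC.down f h ≫ toUnit H) (toUnit _), GrpSch.comp_orbit]
  let aK : AlgGrp.Action K (Red.bc f Q) := (bcAct f aQ).restrict iK
  let o' := QuotBC.pt f q₀
  let θ : K ⟶ Red.bc f Q := iK ≫ π'
  have hθo : aK.orbitMap o' = θ := by
    show lift (𝟙 K) (toUnit K ≫ o') ≫ aK.act = _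
    rw [AlgGrp.Action.lift_restrict_act, Category.id_comp, ← GrpSch.comp_orbit, QuotBC.orbitMap_bcAct]
  -- the orbit map of the kernel is a cover
  have hθ : GrpQ.IsCover θ := by
    obtain ⟨R₀, hR₀, hsec⟩ :=
      TorsorSch.Descent.isLocallyTrivialFor_mono Scheme.fppfPrecoverage_le_fpqcPrecoverage hloc
    obtain ⟨J, U, u, rfl⟩ := R₀.exists_eq_ofArrows
    choose s hs using fun i => hsec (u i) ⟨i⟩
    let c : (Red.bc f Q).left ⟶ Q.left := pullback.fst Q.hom f
    have hR' : Presieve.ofArrows (fun i => pullback c (u i)) (fun i => pullback.fst c (u i)) ∈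
        Scheme.fpqcPrecoverage (Red.bc f Q).left :=
      Precoverage.mem_coverings_of_isPullback _ hR₀ c _ (fun i => pullback.snd _ _)
        fun i => IsPullback.of_hasPullback _ _
    have hsec' : ∀ ⦃Z : Scheme.{u}⦄ (g : Z ⟶ (Red.bc f Q).left),
        Presieve.ofArrows (fun i => pullback c (u i)) (fun i => pullback.fst c (u i)) g →
          ∃ σ : Z ⟶ (Red.bc f R).left, σ ≫ π'.left = g := by
      rintro _ _ ⟨i⟩
      have hsi : s i ≫ (aQ.orbitMap q₀).left = u i := hs i
      have hw : (pullback.snd c (u i) ≫ s i) ≫ R.hom = (pullback.fst c (u i) ≫ pullback.snd Q.hom f) ≫ f := by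
        rw [Category.assoc, Category.assoc, ← pullback.condition, ← Over.w (aQ.orbitMap q₀), reassoc_of% hsi,
          ← pullback.condition_assoc]
      refine ⟨pullback.lift (pullback.snd c (u i) ≫ s i) (pullback.fst c (u i) ≫ pullback.snd Q.hom f) hw, ?_⟩
      refine pullback.hom_ext ?_ ?_
      · rw [Category.assoc, show π'.left ≫ pullback.fst Q.hom f = pullback.fst R.hom f ≫ (aQ.orbitMap q₀).left from
          (AF.isPullback_map f (aQ.orbitMap q₀)).w, pullback.lift_fst_assoc, Category.assoc, hsi]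
        exact (pullback.condition (f := c) (g := u i)).symm
      · rw [Category.assoc, show π'.left ≫ pullback.snd Q.hom f = pullback.snd R.hom f from Over.w π',
          pullback.lift_snd]
    have key : ∀ {Z : Scheme.{u}} (g : Z ⟶ (Red.bc f Q).left) (σ₀ : Z ⟶ (Red.bc f R).left),
        σ₀ ≫ π'.left = g → Flat (pullback.snd θ.left g) ∧ Surjective (pullback.snd θ.left g) ∧
          QuasiCompact (pullback.snd θ.left g) := by
      intro Z g σ₀ hσ₀
      let V : Over (Spec (CommRingCat.of k')) := Over.mk (g ≫ (Red.bc f Q).hom)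
      let v : V ⟶ Red.bc f Q := Over.homMk g rfl
      let σ : V ⟶ Red.bc f R := Over.homMk σ₀ (by
        show σ₀ ≫ (Red.bc f R).hom = g ≫ (Red.bc f Q).hom
        rw [← Over.w π', reassoc_of% hσ₀])
      have hσ : σ ≫ π' = v := Over.OverMorphism.ext hσ₀
      let gV : V ⟶ G' := (σ ≫ qR)⁻¹
      let P := pullback m gV
      let x₀ : P ⟶ Red.bc f R := (pullback.snd m gV ≫ σ) * (pullback.fst m gV ≫ j')
      obtain ⟨κ, hκ⟩ := (GrpQ.mem_kernel hK x₀).2 (by
        rw [MonObj.mul_comp, Category.assoc (pullback.fst m gV), pullback.condition, GrpObj.comp_inv, Category.assoc,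
          mul_inv_cancel])
      have sq : IsPullback κ.left (pullback.snd m gV).left θ.left v.left := by
        refine GrpQ.DomFlat.isPullback_of_forall ?_ ?_ ?_
        · show κ ≫ iK ≫ π' = _
          rw [← Category.assoc, hκ, hmul, Category.assoc, hσ]
        · intro T x y hxy
          obtain ⟨h, hh⟩ := QuotBC.exists_rel_bc f aQ q₀ hpb (y ≫ σ) (x ≫ iK) (by
            rw [Category.assoc, hσ, ← hxy, Category.assoc])
          have hm : h ≫ m = y ≫ gV := by
            have e := congrArg (· ≫ qR) hh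
            simp only [Category.assoc, MonObj.mul_comp, GrpQ.kernel_comp hK, MonObj.comp_one] at e
            rw [GrpObj.comp_inv]
            exact eq_inv_of_mul_eq_one_right e.symm
          refine ⟨pullback.lift h y hm, ?_, pullback.lift_snd _ _ _⟩
          rw [← cancel_mono iK, Category.assoc, hκ, MonObj.comp_mul, pullback.lift_snd_assoc,
            pullback.lift_fst_assoc, hh]
        · intro T l l' h1 h2
          refine pullback.hom_ext ?_ h2
          have e := congrArg (· ≫ iK) h1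
          simp only [Category.assoc, hκ] at e
          rw [MonObj.comp_mul, MonObj.comp_mul, reassoc_of% h2, mul_left_cancel_iff, ← Category.assoc,
            ← Category.assoc, cancel_mono] at e
          exact e
      have sq' := ((IsPullback.of_hasPullback m gV).map (Over.forget _))
      have e2 : sq.isoPullback.inv ≫ (pullback.snd m gV).left = pullback.snd θ.left g := sq.isoPullback_inv_snd
      have h1 : Flat (pullback.snd m gV).left := MorphismProperty.of_isPullback (P := @Flat) sq' ‹_›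
      have h2 : Surjective (pullback.snd m gV).left := MorphismProperty.of_isPullback (P := @Surjective) sq' ‹_›
      have h3 : QuasiCompact (pullback.snd m gV).left := MorphismProperty.of_isPullback (P := @QuasiCompact) sq' ‹_›
      rw [← e2]
      exact ⟨inferInstance, inferInstance, inferInstance⟩
    obtain ⟨𝒰, _, h𝒰⟩ := Scheme.mem_propQCPrecoverage_iff_exists_quasiCompactCover.mp hR'
    have hcov : ∀ i, Flat (pullback.snd θ.left (𝒰.f i)) ∧ Surjective (pullback.snd θ.left (𝒰.f i)) ∧
        QuasiCompact (pullback.snd θ.left (𝒰.f i)) := fun i => by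
      obtain ⟨σ₀, hσ₀⟩ := hsec' (𝒰.f i) (by rw [h𝒰]; exact ⟨i⟩)
      exact key _ σ₀ hσ₀
    exact ⟨DescAlg.FpqcCover.of_fpqcCover @Flat inferInstance θ.left 𝒰.toPreZeroHypercover
        (fun i => 𝒰.map_prop i) fun i => (hcov i).1,
      DescAlg.FpqcCover.of_fpqcCover @Surjective inferInstance θ.left 𝒰.toPreZeroHypercover
        (fun i => 𝒰.map_prop i) fun i => (hcov i).2.1,
      DescAlg.FpqcCover.of_fpqcCover @QuasiCompact inferInstance θ.left 𝒰.toPreZeroHypercover
        (fun i => 𝒰.map_prop i) fun i => (hcov i).2.2⟩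
  -- the isotropy group
  obtain ⟨L, _, iL, _, hL, -⟩ := GrpSch.exists_isotropy_grp aK o'
  rw [hθo] at hL
  have hfix : ∀ {T : Over (Spec (CommRingCat.of k'))} (x : T ⟶ K),
      (∃ h : T ⟶ Red.bc f H, h ≫ j' = x ≫ iK) → x ≫ θ = toUnit T ≫ o' := by
    rintro T x ⟨h, hh⟩
    rw [← Category.assoc, ← hh, ← _root_.one_mul (h ≫ j'), hmul, Hom.one_def, Category.assoc]
    show toUnit T ≫ η[Red.bc f R] ≫ (Over.pullback f).map (aQ.orbitMap q₀) = _
    rw [← QuotBC.orbitMap_bcAct, GrpSch.η_orbit]
  have hmem : ∀ {T : Over (Spec (CommRingCat.of k'))} (x : T ⟶ K),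
      x ≫ θ = toUnit T ≫ o' → ∃ h : T ⟶ Red.bc f H, h ≫ j' = x ≫ iK := by
    intro T x hx
    obtain ⟨h, hh⟩ := QuotBC.exists_rel_bc f aQ q₀ hpb 1 (x ≫ iK) (by
      rw [Category.assoc, ← QuotBC.orbitMap_bcAct, Hom.one_def, Category.assoc, GrpSch.η_orbit, ← hx,
        QuotBC.orbitMap_bcAct])
    exact ⟨h, by rw [hh, _root_.one_mul]⟩
  obtain ⟨w, hw⟩ := hmem iL hL.w
  have sqL : IsPullback iL.left w.left iK.left j'.left := by
    refine GrpQ.DomFlat.isPullback_of_forall hw.symm (fun T x y hxy => ?_) (fun T l l' h1 h2 => ?_)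
    · refine ⟨hL.lift x (toUnit T) (hfix x ⟨y, hxy.symm⟩), hL.lift_fst _ _ _, ?_⟩
      rw [← cancel_mono j', Category.assoc, hw, ← Category.assoc, hL.lift_fst, hxy]
    · exact hL.hom_ext h1 (toUnit_unique _ _)
  haveI : IsClosedImmersion iL.left := MorphismProperty.of_isPullback (P := @IsClosedImmersion) sqL.flip ‹_›
  haveI : Mono iL := Over.mono_of_mono_left iL
  haveI : LocallyOfFiniteType L.hom := by rw [← Over.w iL]; infer_instance
  haveI : QuasiCompact L.hom := by rw [← Over.w iL]; infer_instance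
  obtain ⟨X, a, o, hX, -⟩ := Homog.exists_quotient_affine K L iL
  have hc := Homog.isCover_of_isQuotient hX
  obtain ⟨φ, hφ⟩ := GrpQ.exists_desc hc θ fun Z x y e => by
    obtain ⟨h, rfl⟩ := Homog.exists_rel hX.2.2.2 x y e
    have e1 := congrArg (· ≫ π') (show (x * (h ≫ iL)) ≫ iK = (x ≫ iK) * ((h ≫ w) ≫ j') by
      rw [MonObj.mul_comp, Category.assoc h iL, ← hw, ← Category.assoc])
    simp only [hmul] at e1
    simp only [θ, ← Category.assoc]
    exact e1.symm
  obtain ⟨ψ, hψ⟩ := GrpQ.exists_desc hθ (a.orbitMap o) fun Z x y e => by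
    obtain ⟨h, hh⟩ := QuotBC.exists_rel_bc f aQ q₀ hpb (x ≫ iK) (y ≫ iK) (by
      rw [Category.assoc, Category.assoc]; exact e)
    have e1 : (x⁻¹ * y) ≫ θ = toUnit Z ≫ o' := hfix _ ⟨h, by
      rw [MonObj.mul_comp, GrpObj.inv_comp, hh, inv_mul_cancel_left]⟩
    have e2 := congrArg (lift x (hL.lift (x⁻¹ * y) (toUnit Z) e1) ≫ ·) hX.2.2.2.w
    rw [lift_fst_assoc, ← Category.assoc, Homog.comp_mulPair, hL.lift_fst, mul_inv_cancel_left] at e2
    exact e2
  refine ⟨L, _, iL, X, a, o, inferInstance, inferInstance, hX, ⟨⟨φ, ψ, ?_, ?_⟩⟩⟩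
  · exact GrpQ.cancel_cover hc (by rw [← Category.assoc, hφ, hψ, Category.comp_id])
  · exact GrpQ.cancel_cover hθ (by rw [← Category.assoc, hψ, hφ, Category.comp_id])

end Groth.Agent.Lib.WeilRep.QuotIdent
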