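import Groth.Prelude.Def_ChGrp
import Groth.Agent.H1.Obs.QuasiAffine
import Groth.Agent.H1.Obs.Crit
import Groth.Agent.H1.Obs.Rep
import Groth.Agent.H1.Classical.Smooth
import Groth.Agent.Lib.GrpQ.RedSubgroup
import Groth.Agent.Lib.Homog.Orbit
import Groth.Agent.Lib.Homog.Affine
import Groth.Agent.Lib.GrpSch.Isotropy
import Groth.Agent.Lib.Lim.Thickening
import Groth.Agent.S12540
import Groth.Agent.S7975

/-!
# Quotients of affine groups of `p`-power exponent are affine
-/

set_option autoImplicit false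
set_option backward.isDefEq.respectTransparency false
set_option linter.style.haveILetI false
set_option maxHeartbeats 800000
set_option synthInstance.maxHeartbeats 200000

universe u

open CategoryTheory Limits MonoidalCategory CartesianMonoidalCategory MonObj GrpObj AlgebraicGeometry
open Groth.Agent.Lib Groth.Agent.Lib.RedPts Groth.Agent.Lib.RedPts.Points Groth.Agent.H1.Obs
open Groth.Agent.H1.Classical.Scheme' Groth.Agent.H1.RInv

namespace Groth.Agent.Lib.WeilRep.UnipQuot

attribute [local instance] baseAlgebra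

variable {k : Type u} [Field k] [IsAlgClosed k] (p m : ℕ) [ExpChar k p]

/-- An element of `p`-power exponent of a field of exponential characteristic `p` is one. -/
theorem eq_one_of_pow {c : k} (h : c ^ p ^ m = 1) : c = 1 := by
  have h2 : (c - 1) ^ p ^ m = 0 := by rw [sub_pow_expChar_pow, one_pow, h, sub_self]
  exact sub_eq_zero.mp (eq_zero_of_pow_eq_zero h2)

/-- A quasi-affine homogeneous space of a smooth affine group of `p`-power exponent is affine. -/
theorem isAffine_of_quasiAffine {U X : Over (Spec (CommRingCat.of k))} [GrpObj U] [IsAffine U.left] [Smooth U.hom]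
    [X.left.IsQuasiAffine] (hU : ∀ g : P U, g ^ p ^ m = 1)
    (a : AlgGrp.Action U X) (o : 𝟙_ (Over (Spec (CommRingCat.of k))) ⟶ X) [Surjective (a.orbitMap o).left] :
    IsAffine X.left := by
  classical
  let φ : Γ(X.left, ⊤) →+* Γ(U.left, ⊤) := (a.orbitMap o).left.appTop.hom
  let s : Set Γ(X.left, ⊤) := {f | IsAffineOpen (X.left.basicOpen f)}
  let I : Ideal Γ(X.left, ⊤) := Ideal.span s
  let τ : P U → (Γ(X.left, ⊤) →+* Γ(X.left, ⊤)) := fun g => (GrpSch.translate a g).hom.left.appTop.hom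
  have hτs : ∀ g : P U, I ≤ I.comap (τ g) := fun g => by
    refine Ideal.span_le.mpr fun f hf => Ideal.subset_span ?_
    haveI : IsIso (GrpSch.translate a g).hom.left :=
      inferInstanceAs (IsIso ((Over.forget _).map (GrpSch.translate a g).hom))
    show IsAffineOpen (X.left.basicOpen ((GrpSch.translate a g).hom.left.appTop f))
    rw [← Scheme.preimage_basicOpen_top]
    exact IsAffineOpen.preimage_of_isIso hf _
  have hτ : ∀ (g : P U) (f : Γ(X.left, ⊤)), φ (τ g f) = ltr g (φ f) := fun g f => ext_fun fun x => by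
    rw [ev_ltr]
    show ev x ((a.orbitMap o).left.appTop ((GrpSch.translate a g).hom.left.appTop f)) =
      ev (g * x) ((a.orbitMap o).left.appTop f)
    rw [← ev_comp, ← ev_comp, ← ev_comp, GrpSch.comp_translate_hom, GrpSch.mul_orbit,
      toUnit_unique (toUnit (𝟙_ (Over (Spec (CommRingCat.of k))))) (𝟙 _), Category.id_comp]
  have hconst : ∀ c : k, φ (algebraMap k Γ(X.left, ⊤) c) = algebraMap k Γ(U.left, ⊤) c := fun c =>
    ext_fun fun x => by
      show ev x ((a.orbitMap o).left.appTop (algebraMap k Γ(X.left, ⊤) c)) = _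
      rw [← ev_comp, ev_const, ev_const]
  let J : Submodule k Γ(U.left, ⊤) :=
    { carrier := φ '' (I : Set Γ(X.left, ⊤))
      zero_mem' := ⟨0, I.zero_mem, map_zero φ⟩
      add_mem' := by
        rintro _ _ ⟨f, hf, rfl⟩ ⟨f', hf', rfl⟩
        exact ⟨f + f', I.add_mem hf hf', map_add φ f f'⟩
      smul_mem' := by
        rintro c _ ⟨f, hf, rfl⟩
        exact ⟨algebraMap k Γ(X.left, ⊤) c * f, I.mul_mem_left _ hf, by rw [map_mul, hconst, Algebra.smul_def]⟩ }
  have hJ : ∀ g : P U, ∀ w ∈ J, ltr g w ∈ J := by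
    rintro g _ ⟨f, hf, rfl⟩
    exact ⟨τ g f, hτs g hf, hτ g f⟩
  -- a nonzero element
  obtain ⟨_, ⟨_, ⟨f₀, hf₀, rfl⟩, rfl⟩, hx₀, -⟩ :=
    (Scheme.IsQuasiAffine.isBasis_basicOpen X.left).exists_subset_of_mem_open
      (Set.mem_univ (o.left.base (IsLocalRing.closedPoint k : ↥(Spec (CommRingCat.of k))))) isOpen_univ
  have hne : φ f₀ ≠ 0 := fun h0 => by
    obtain ⟨y, hy⟩ := (a.orbitMap o).left.surjective (o.left.base (IsLocalRing.closedPoint k : ↥(Spec (CommRingCat.of k))))
    have h1 : y ∈ (a.orbitMap o).left ⁻¹ᵁ X.left.basicOpen f₀ := by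
      show (a.orbitMap o).left y ∈ X.left.basicOpen f₀
      rw [hy]; exact hx₀
    rw [Scheme.preimage_basicOpen_top, show (a.orbitMap o).left.appTop f₀ = 0 from h0, Scheme.basicOpen_zero] at h1
    exact h1
  obtain ⟨W, hWfd, hWs, hWl, -⟩ := exists_stable_left ({φ f₀} : Finset Γ(U.left, ⊤))
  haveI := hWfd
  haveI : FiniteDimensional k ↥(W ⊓ J) := Submodule.finiteDimensional_of_le inf_le_left
  haveI : Nontrivial ↥(W ⊓ J) := ⟨⟨⟨φ f₀, hWs (Finset.mem_singleton_self _), f₀, Ideal.subset_span hf₀, rfl⟩, 0,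
    fun h => hne (congrArg Subtype.val h)⟩⟩
  let ρ : Representation k (P U) ↥(W ⊓ J) :=
    { toFun := fun g => (ltr g⁻¹).toLinearMap.restrict (fun w hw => ⟨hWl g⁻¹ w hw.1, hJ g⁻¹ w hw.2⟩)
      map_one' := LinearMap.ext fun w => Subtype.ext (by
        show ltr (1 : P U)⁻¹ (w : Γ(U.left, ⊤)) = w
        rw [inv_one, ltr_one])
      map_mul' := fun g h => LinearMap.ext fun w => Subtype.ext (by
        show ltr (g * h)⁻¹ (w : Γ(U.left, ⊤)) = ltr g⁻¹ (ltr h⁻¹ (w : Γ(U.left, ⊤)))
        rw [ltr_ltr, _root_.mul_inv_rev]) }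
  have hρ : ∀ g : P U, IsNilpotent (ρ g - 1) := fun g => by
    haveI : ExpChar (Module.End k ↥(W ⊓ J)) p :=
      expChar_of_injective_algebraMap (R := k) (FaithfulSMul.algebraMap_injective k _) p
    refine ⟨p ^ m, (sub_pow_expChar_pow_of_commute (R := Module.End k ↥(W ⊓ J)) p m (Commute.one_right (ρ g))).trans ?_⟩
    rw [one_pow, ← map_pow, hU, map_one, sub_self]
  obtain ⟨v, hv0, hv⟩ := S7975.result k (P U) ↥(W ⊓ J) ρ hρ
  obtain ⟨f, hfI, hfv⟩ := v.2.2
  have hvc : (v : Γ(U.left, ⊤)) = algebraMap k Γ(U.left, ⊤) (ev (1 : P U) (v : Γ(U.left, ⊤))) := ext_fun fun x => by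
    rw [ev_const]
    have h := congrArg (ev (1 : P U)) (congrArg Subtype.val (hv x⁻¹))
    change ev (1 : P U) (ltr x⁻¹⁻¹ (v : Γ(U.left, ⊤))) = _ at h
    rwa [_root_.inv_inv, ev_ltr, _root_.mul_one] at h
  have hc : ev (1 : P U) (v : Γ(U.left, ⊤)) ≠ 0 := fun h0 => hv0 (Subtype.ext (by
    rw [hvc, h0, map_zero]; rfl))
  have hunit : IsUnit (φ f) := by
    rw [hfv, hvc]
    exact (isUnit_iff_ne_zero.mpr hc).map _
  have htop : X.left.basicOpen f = ⊤ := by
    refine eq_top_iff.mpr fun x _ => ?_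
    obtain ⟨y, rfl⟩ := (a.orbitMap o).left.surjective x
    show y ∈ (a.orbitMap o).left ⁻¹ᵁ X.left.basicOpen f
    rw [Scheme.preimage_basicOpen_top, Scheme.basicOpen_of_isUnit _ hunit]
    trivial
  have hfu : IsUnit f := by
    refine X.left.toRingedSpace.isUnit_of_isUnit_germ ⊤ f fun x hx => ?_
    exact (X.left.mem_basicOpen f x hx).mp (by rw [htop]; trivial)
  exact isAffine_of_isAffineOpen_basicOpen s (Ideal.eq_top_of_isUnit_mem I hfI hfu) fun i hi => hi

/-- The quotient of an affine group of finite type and of `p`-power exponent by a closed subgroup is affine. -/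
theorem isAffine_quotient (K L X : Over (Spec (CommRingCat.of k))) [GrpObj K] [IsAffine K.left]
    [LocallyOfFiniteType K.hom] (hK : (𝟙 K) ^ p ^ m = 1) [GrpObj L] (iL : L ⟶ K) [IsMonHom iL]
    [IsClosedImmersion iL.left] {a : AlgGrp.Action K X} {o : 𝟙_ (Over (Spec (CommRingCat.of k))) ⟶ X}
    (hX : AGF.IsQuotient iL X a o) : IsAffine X.left := by
  haveI hXt := hX.1
  haveI hXs := isSeparated_of_isQuotient hX
  haveI : Surjective (a.orbitMap o).left := hX.2.2.1
  haveI : CompactSpace X.left := ⟨by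
    rw [← (Surjective.surj (f := (a.orbitMap o).left)).range_eq]
    exact isCompact_range (a.orbitMap o).left.continuous⟩
  haveI : QuasiCompact X.hom := (HasAffineProperty.iff_of_isAffine (P := @QuasiCompact)).mpr inferInstance
  obtain ⟨K', _, iR, _, _, _, hK'red⟩ := GrpQ.RedSubgroup.exists_reduced_subgroup K
  haveI := hK'red
  haveI : Mono iR := Over.mono_of_mono_left iR
  haveI : IsAffine K'.left := isAffine_of_isAffineHom iR.left
  haveI : LocallyOfFiniteType K'.hom := by rw [← Over.w iR]; infer_instance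
  haveI : GrpObj (Over.mk K'.hom) := ‹GrpObj K'›
  haveI : Smooth K'.hom := H1.Classical.Smooth.smooth_of_isReduced K'.hom
  let a' : AlgGrp.Action K' X := a.restrict iR
  haveI : IsClosedImmersion o.left := by
    haveI : IsClosedImmersion (o.left ≫ X.hom) := by
      rw [Over.w]; exact inferInstanceAs (IsClosedImmersion (𝟙 (Spec (CommRingCat.of k))))
    exact IsClosedImmersion.of_comp o.left X.hom
  obtain ⟨L₁, _, i₁, _, hpb, hcl⟩ := GrpSch.exists_isotropy_grp a' o
  haveI := hcl inferInstance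
  obtain ⟨Z, b, y, j, hZ, -, -, hj, -, hr⟩ := Homog.exists_quotient_isotropy a' o hpb
  haveI := hj
  have horb : a'.orbitMap o = iR ≫ a.orbitMap o := by
    show lift (𝟙 K') (toUnit K' ≫ o) ≫ a'.act = _
    rw [AlgGrp.Action.lift_restrict_act, Category.id_comp, GrpSch.comp_orbit]
  have hrange : Set.range j.left = Set.univ := by
    rw [hr, horb, Over.comp_left]
    exact (Surjective.surj (f := iR.left ≫ (a.orbitMap o).left)).range_eq
  haveI : IsClosedImmersion j.left := IsClosedImmersion.of_isPreimmersion j.left (by rw [hrange]; exact isClosed_univ)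
  haveI : Surjective j.left := ⟨Set.range_eq_univ.mp hrange⟩
  suffices IsAffine Z.left from Lim.Thickening.isAffine_of_surjective j.left
  haveI : LocallyOfFiniteType L₁.hom := by rw [← Over.w i₁]; infer_instance
  haveI : IsAffine L₁.left := isAffine_of_isAffineHom i₁.left
  obtain ⟨L₂, _, h₂, _, _, _, hL₂red⟩ := GrpQ.RedSubgroup.exists_reduced_subgroup L₁
  haveI := hL₂red
  haveI : IsAffine L₂.left := isAffine_of_isAffineHom h₂.left
  haveI : LocallyOfFiniteType L₂.hom := by rw [← Over.w h₂]; infer_instance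
  haveI : GrpObj (Over.mk L₂.hom) := ‹GrpObj L₂›
  haveI : Smooth L₂.hom := H1.Classical.Smooth.smooth_of_isReduced L₂.hom
  haveI : IsMonHom (h₂ ≫ i₁) := inferInstance
  haveI : IsClosedImmersion (h₂ ≫ i₁).left := by rw [Over.comp_left]; infer_instance
  haveI : Mono (h₂ ≫ i₁) := Over.mono_of_mono_left _
  obtain ⟨X₂, a₂, o₂, hX₂, -⟩ := Homog.exists_quotient_affine K' L₂ (h₂ ≫ i₁)
  have hpow : ∀ {L' : Over (Spec (CommRingCat.of k))} [GrpObj L'] (f : L' ⟶ K) [IsMonHom f] [Mono f]
      {T : Over (Spec (CommRingCat.of k))} (x : T ⟶ L'), x ^ p ^ m = 1 := fun {L'} _ f _ _ {T} x => by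
    rw [← cancel_mono f, MonObj.pow_comp, MonObj.one_comp, ← Category.comp_id (x ≫ f), ← MonObj.comp_pow, hK,
      MonObj.comp_one]
  have hobs : AGF.IsObservableIn k (h₂ ≫ i₁) := by
    refine observable_of_charCrit _ fun χ hχ hw => ?_
    haveI := hχ
    have h1 : ∀ h : P L₂, ev h (Red.gmFn χ) = 1 := fun h => by
      refine eq_one_of_pow p m ?_
      have hn : ∀ n : ℕ, ev (h ^ n) (Red.gmFn χ) = ev h (Red.gmFn χ) ^ n := fun n => by
        induction n with
        | zero => rw [pow_zero, pow_zero, ev_gmFn_one]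
        | succ n ih => rw [pow_succ, pow_succ, ev_gmFn_mul, ih]
      rw [← hn, hpow ((h₂ ≫ i₁) ≫ iR) h, ev_gmFn_one]
    have e : (fun h => ev h (Red.gmFn χ⁻¹)) = fun h => ev h (Red.gmFn χ) := funext fun h => by
      rw [ev_gmFn_inv, h1, inv_one]
    rw [e]; exact hw
  haveI := (quotient_quasiAffine_iff hX₂).mp hobs
  haveI : Surjective (a₂.orbitMap o₂).left := hX₂.2.2.1
  haveI : IsAffine X₂.left := isAffine_of_quasiAffine p m (fun g => hpow iR g) a₂ o₂
  exact (S12540.result k K' L₁ i₁ L₂ h₂ Z b y hZ X₂ a₂ o₂ hX₂).mpr inferInstance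

end Groth.Agent.Lib.WeilRep.UnipQuot
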